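import Cfsg.Agent.H203.LSDef
import Cfsg.Agent.S5549
import Cfsg.Agent.S0359
import Cfsg.Agent.S0360
import Cfsg.Agent.S0361
import Cfsg.Agent.S0364
import Cfsg.Agent.S0367
import Cfsg.Agent.S0368
import Cfsg.Agent.S0376
import Cfsg.Agent.KFacts.FiTTh.BasFi

/-!
# The degrees of the representations of `Fi23` (helper49)

`card_le_finrank`: if `Pre e` (the 23 commuting transpositions of `Fi23` with `2^11.M23`) and `ρ` is a complex
representation in which they do not all act trivially, the degree is at least 253.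
-/

set_option autoImplicit false

open scoped Pointwise

namespace Cfsg.Agent.H49.Fpf.FiDeg

open Cfsg Cfsg.Agent.KFacts.FiTTh.BasDef
open Cfsg.Agent.H852.GolayMod (ind ind_apply ind_symmDiff hammingNorm_ind mem_octads_iff mem_dodecads_iff ind_mem_iff
  ind_support₂)
open Cfsg.Agent.S5549 (fs fs_apply fs_eq_dot mem_of_orth)

/-! ### stabilisers -/

theorem smul_code (g : M24) {O : Finset GolayPt} (hO : ind O ∈ golayCode) : ind (g • O) ∈ golayCode := by
  rw [Cfsg.Agent.H852.GolayMod.smul_eq_map, ← Cfsg.Agent.H852.GolayMod.act_ind]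
  exact Cfsg.Agent.H852.GolayMod.act_mem g.2 hO

theorem card_stab_octad {O : Finset GolayPt} (hO : O ∈ octads) :
    Nat.card (MulAction.stabilizer M24 O) * 759 = 244823040 := by
  have h1 : MulAction.orbit M24 O = octads := by
    ext O'
    constructor
    · rintro ⟨g, rfl⟩
      show g • O ∈ octads
      rw [mem_octads_iff] at hO ⊢
      exact ⟨smul_code g hO.1, by rw [Finset.card_smul_finset]; exact hO.2⟩
    · intro h
      obtain ⟨g, hg⟩ := Cfsg.Agent.S0367.result O O' hO h
      exact ⟨g, hg⟩
  have h2 := MulAction.index_stabilizer M24 O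
  rw [h1, Cfsg.Agent.S0360.result] at h2
  rw [← h2, Subgroup.card_mul_index, Cfsg.Agent.S0364.result]

theorem card_stab_dodecad {O : Finset GolayPt} (hO : O ∈ dodecads) :
    Nat.card (MulAction.stabilizer M24 O) * 2576 = 244823040 := by
  have h1 : MulAction.orbit M24 O = dodecads := by
    ext O'
    constructor
    · rintro ⟨g, rfl⟩
      show g • O ∈ dodecads
      rw [mem_dodecads_iff] at hO ⊢
      exact ⟨smul_code g hO.1, by rw [Finset.card_smul_finset]; exact hO.2⟩
    · intro h
      obtain ⟨g, hg⟩ := Cfsg.Agent.S0368.result O O' hO h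
      exact ⟨g, hg⟩
  have h2 := MulAction.index_stabilizer M24 O
  rw [h1, Cfsg.Agent.S0361.result] at h2
  rw [← h2, Subgroup.card_mul_index, Cfsg.Agent.S0364.result]

/-- the point stabiliser -/
abbrev H0 : Subgroup M24 := MulAction.stabilizer M24 (none : GolayPt)

theorem card_H0 : Nat.card H0 = 10200960 := Cfsg.Agent.S0376.result none

theorem orbit_bound {S : Finset GolayPt} {N : ℕ} (h : Nat.card (MulAction.stabilizer M24 S) = N)
    (hN : Nat.gcd N 10200960 * 253 ≤ 10200960) : 253 ≤ Nat.card (MulAction.orbit H0 S) := by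
  have h1 := MulAction.index_stabilizer H0 S
  have h2 := Subgroup.card_mul_index (MulAction.stabilizer H0 S)
  rw [card_H0, h1] at h2
  have h3 : Nat.card (MulAction.stabilizer H0 S) ∣ N := by
    have h4 : (MulAction.stabilizer H0 S).map H0.subtype ≤ MulAction.stabilizer M24 S := by
      rintro _ ⟨g, hg, rfl⟩
      exact hg
    have h5 := Subgroup.card_dvd_of_le h4
    rwa [Subgroup.card_map_of_injective H0.subtype_injective, h] at h5
  have h4 : Nat.card (MulAction.stabilizer H0 S) ∣ 10200960 := Dvd.intro _ h2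
  have h5 := Nat.le_of_dvd (Nat.gcd_pos_of_pos_right _ (by norm_num)) (Nat.dvd_gcd h3 h4)
  rw [Nat.card_coe_set_eq]
  by_contra hcon
  push Not at hcon
  have h6 : Nat.card (MulAction.stabilizer H0 S) * (MulAction.orbit H0 S).ncard ≤ Nat.gcd N 10200960 * 252 :=
    Nat.mul_le_mul h5 (by omega)
  have h7 := Nat.gcd_pos_of_pos_right N (n := 10200960) (by norm_num)
  omega

theorem compl_code {D : Finset GolayPt} (hD : ind D ∈ golayCode) : ind Dᶜ ∈ golayCode := by
  have h1 : ind Dᶜ = ind D + 1 := by
    funext p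
    rw [Pi.add_apply, ind_apply, ind_apply, Pi.one_apply]
    by_cases hp : p ∈ D
    · simp [hp]; decide
    · simp [hp]
  rw [h1]
  exact golayCode.add_mem hD (Submodule.subset_span (Or.inr rfl))

theorem stab_compl (S : Finset GolayPt) : MulAction.stabilizer M24 Sᶜ = MulAction.stabilizer M24 S := by
  ext g
  rw [MulAction.mem_stabilizer_iff, MulAction.mem_stabilizer_iff]
  have h1 : g • Sᶜ = (g • S)ᶜ := by
    ext p
    rw [Finset.mem_compl, Finset.mem_smul_finset, Finset.mem_smul_finset]
    constructor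
    · rintro ⟨q, hq, rfl⟩ ⟨q', hq', h⟩
      rw [MulAction.injective g h] at hq'
      exact (Finset.mem_compl.1 hq) hq'
    · intro h
      refine ⟨g⁻¹ • p, ?_, smul_inv_smul g p⟩
      rw [Finset.mem_compl]
      intro h'
      exact h ⟨_, h', smul_inv_smul g p⟩
  rw [h1]
  exact ⟨fun h => compl_injective h, fun h => by rw [h]⟩

/-- **Orbits of `M23` on the words of the code.** -/
theorem orbit_code {S : Finset GolayPt} (hS : ind S ∈ golayCode) (hS0 : S ≠ ∅) (hn : none ∉ S) :
    253 ≤ Nat.card (MulAction.orbit H0 S) := by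
  have h1 := Cfsg.Agent.S0359.result _ hS
  rw [hammingNorm_ind] at h1
  rcases h1 with h | h | h | h | h
  · exact absurd (Finset.card_eq_zero.1 h) hS0
  · have h2 := card_stab_octad ((mem_octads_iff S).2 ⟨hS, h⟩)
    exact orbit_bound (N := 322560) (by omega) (by norm_num)
  · have h2 := card_stab_dodecad ((mem_dodecads_iff S).2 ⟨hS, h⟩)
    exact orbit_bound (N := 95040) (by omega) (by norm_num)
  · have h2 := card_stab_octad (O := Sᶜ) ((mem_octads_iff Sᶜ).2 ⟨compl_code hS, by
      rw [Finset.card_compl, h]; decide⟩)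
    rw [stab_compl] at h2
    exact orbit_bound (N := 322560) (by omega) (by norm_num)
  · exfalso
    apply hn
    have h2 : S = Finset.univ := by
      apply Finset.eq_univ_of_card
      rw [h]; decide
    rw [h2]
    exact Finset.mem_univ _

/-! ### representations -/

variable {G : Type*} [Group G] {e : GolayPt → G} {V : Type*} [AddCommGroup V] [Module ℂ V]

/-- the weight given by `S` occurs -/
def Occ (e : GolayPt → G) (ρ : Representation ℂ G V) (S : Finset GolayPt) : Prop :=
  ∃ v : V, v ≠ 0 ∧ ∀ p : GolayPt, ρ (e p) v = (if p ∈ S then (-1 : ℂ) else 1) • v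

theorem Occ.smul (P : Pre e) {ρ : Representation ℂ G V} {S : Finset GolayPt} (h : Occ e ρ S) (g : H0) :
    Occ e ρ (g • S) := by
  obtain ⟨v, hv, h⟩ := h
  obtain ⟨n, hn⟩ := P.full ((g : M24) : Equiv.Perm GolayPt) (mem_M23.2 ⟨(g : M24).2, g.2⟩)
  refine ⟨ρ n v, ?_, fun p => ?_⟩
  · intro h0
    apply hv
    have h1 : ρ n⁻¹ (ρ n v) = v := by
      rw [← Module.End.mul_apply, ← map_mul, inv_mul_cancel, map_one]; rfl
    rw [← h1, h0, map_zero]
  · obtain ⟨q, rfl⟩ := (((g : M24) : Equiv.Perm GolayPt)).surjective p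
    have h2 : e (((g : M24) : Equiv.Perm GolayPt) q) * n = n * e q := by rw [← hn q]; group
    rw [← Module.End.mul_apply, ← map_mul, h2, map_mul, Module.End.mul_apply, h q, map_smul]
    congr 1
    have h3 : (((g : M24) : Equiv.Perm GolayPt) q ∈ g • S) ↔ q ∈ S := Finset.smul_mem_smul_finset_iff g
    by_cases hq : q ∈ S
    · rw [if_pos hq, if_pos (h3.2 hq)]
    · rw [if_neg hq, if_neg (fun h' => hq (h3.1 h'))]

/-- the sign of a set -/
noncomputable def sg (S T : Finset GolayPt) : ℂ := ∏ p ∈ T, if p ∈ S then -1 else 1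

theorem sg_eq (S T : Finset GolayPt) : sg S T = (-1) ^ (T.filter (· ∈ S)).card := by
  unfold sg
  rw [Finset.prod_ite, Finset.prod_const, Finset.prod_const_one, mul_one]

theorem rho_pr (P : Pre e) {ρ : Representation ℂ G V} {S : Finset GolayPt} {v : V}
    (h : ∀ p : GolayPt, ρ (e p) v = (if p ∈ S then (-1 : ℂ) else 1) • v) (T : Finset GolayPt) :
    ρ (pr e T) v = sg S T • v := by
  induction T using Finset.induction_on with
  | empty => rw [pr_empty, map_one, sg, Finset.prod_empty, one_smul]; rfl
  | insert a T ha ih =>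
    rw [P.pr_insert ha, map_mul, Module.End.mul_apply, ih, map_smul, h a, smul_smul, sg, sg, Finset.prod_insert ha,
      mul_comm]

/-- a weight gives a word of the code -/
theorem exists_occ (P : Pre e) [FiniteDimensional ℂ V] {ρ : Representation ℂ G V} (hne : ∃ p, ρ (e p) ≠ 1) :
    ∃ S : Finset GolayPt, Occ e ρ S ∧ S ≠ ∅ ∧ none ∉ S ∧ ind S ∈ golayCode := by
  classical
  obtain ⟨p₀, hp₀⟩ := hne
  obtain ⟨v, χ, hv, hχ, hχ1⟩ := Cfsg.Agent.H203.LS.exists_weight (k := ℂ) (V := V) (J := GolayPt)
    (fun p => ρ (e p)) (fun p q => by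
      show ρ (e p) * ρ (e q) = ρ (e q) * ρ (e p)
      rw [← map_mul, ← map_mul, P.comm]) (j0 := p₀) (N := 2) (by norm_num)
    (by
      show ρ (e p₀) ^ 2 = 1
      rw [← map_pow, pow_two, P.sq, map_one]) hp₀
  have hχ' : ∀ p, ρ (e p) v = χ p • v := hχ
  have hsq : ∀ p, χ p = 1 ∨ χ p = -1 := by
    intro p
    have h1 : ρ (e p) (ρ (e p) v) = v := by
      rw [← Module.End.mul_apply, ← map_mul, P.sq, map_one]; rfl
    rw [hχ' p, map_smul, hχ' p, smul_smul] at h1
    have h2 : (χ p * χ p - 1) • v = 0 := by rw [sub_smul, one_smul, h1, sub_self]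
    rcases smul_eq_zero.1 h2 with h3 | h3
    · have h4 : (χ p - 1) * (χ p + 1) = 0 := by ring_nf; ring_nf at h3; exact h3
      rcases mul_eq_zero.1 h4 with h5 | h5
      · exact Or.inl (sub_eq_zero.1 h5)
      · exact Or.inr (eq_neg_of_add_eq_zero_left h5)
    · exact absurd h3 hv
  let S : Finset GolayPt := Finset.univ.filter fun p => χ p = -1
  have hS : ∀ p, χ p = if p ∈ S then -1 else 1 := by
    intro p
    by_cases h : p ∈ S
    · rw [if_pos h]
      exact (Finset.mem_filter.1 h).2
    · rw [if_neg h]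
      rcases hsq p with h1 | h1
      · exact h1
      · exact absurd (show p ∈ S from Finset.mem_filter.2 ⟨Finset.mem_univ p, h1⟩) h
  have hocc : ∀ p : GolayPt, ρ (e p) v = (if p ∈ S then (-1 : ℂ) else 1) • v := fun p => by rw [← hS, hχ']
  refine ⟨S, ⟨v, hv, hocc⟩, ?_, ?_, ?_⟩
  · intro h
    apply hχ1
    rw [hS p₀, h]
    simp
  · intro h
    have h1 := hocc none
    rw [P.zero, map_one, if_pos h] at h1
    have h2 : v = (-1 : ℂ) • v := h1
    have h3 : (2 : ℂ) • v = 0 := by
      rw [show (2 : ℂ) = 1 - (-1) by norm_num, sub_smul, one_smul, ← h2, sub_self]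
    rcases smul_eq_zero.1 h3 with h4 | h4
    · norm_num at h4
    · exact hv h4
  · have hoct : ∀ O ∈ octads, Even (O.filter (· ∈ S)).card := by
      intro O hO
      have h1 := rho_pr P hocc O
      rw [P.pr_oct hO, map_one] at h1
      have h2 : (sg S O - 1) • v = 0 := by
        rw [sub_smul, one_smul, ← h1]
        exact sub_self _
      rcases smul_eq_zero.1 h2 with h3 | h3
      · have h4 := sub_eq_zero.1 h3
        rw [sg_eq] at h4
        by_contra ho
        rw [Nat.not_even_iff_odd] at ho
        rw [ho.neg_one_pow] at h4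
        norm_num at h4
      · exact absurd h3 hv
    have hlin : ∀ w ∈ golayCode, ∑ p ∈ S, w p = 0 := by
      intro w hw
      rw [SporadicA.OctadSpan.golayCode_eq_span_octads] at hw
      induction hw using Submodule.span_induction with
      | mem x hx =>
        have h1 := hoct _ hx
        have h5 : ∀ p, x p = if p ∈ support₂ x then 1 else 0 := by
          intro p
          by_cases hp : p ∈ support₂ x
          · rw [if_pos hp]
            have := (Finset.mem_filter.1 hp).2
            have h7 : ∀ a : ZMod 2, a ≠ 0 → a = 1 := by decide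
            exact h7 _ this
          · rw [if_neg hp]
            by_contra h6
            exact hp (Finset.mem_filter.2 ⟨Finset.mem_univ _, h6⟩)
        rw [Finset.sum_congr rfl fun p _ => h5 p, Finset.sum_ite_mem, Finset.sum_const, nsmul_eq_mul, mul_one]
        have h6 : S ∩ support₂ x = (support₂ x).filter (· ∈ S) := by
          ext p
          simp only [Finset.mem_inter, Finset.mem_filter]
          tauto
        rw [h6]
        exact (ZMod.natCast_eq_zero_iff _ 2).2 h1.two_dvd
      | zero => simp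
      | add x y _ _ hx hy => rw [Finset.sum_congr rfl fun p _ => Pi.add_apply x y p, Finset.sum_add_distrib, hx, hy, add_zero]
      | smul a x _ hx =>
        rw [Finset.sum_congr rfl fun p _ => Pi.smul_apply a x p, ← Finset.smul_sum, hx, smul_zero]
    apply mem_of_orth
    apply LinearMap.ext
    intro c
    rw [fs_apply, LinearMap.zero_apply]
    exact hlin _ c.2

/-- **The degree bound.** -/
theorem card_le_finrank (P : Pre e) [FiniteDimensional ℂ V] {ρ : Representation ℂ G V} (hne : ∃ p, ρ (e p) ≠ 1) :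
    253 ≤ Module.finrank ℂ V := by
  classical
  obtain ⟨S, hS, hS0, hnone, hSc⟩ := exists_occ P hne
  refine (orbit_code hSc hS0 hnone).trans ?_
  have hall : ∀ O : MulAction.orbit H0 S, Occ e ρ (O : Finset GolayPt) := by
    rintro ⟨_, g, rfl⟩
    exact hS.smul P g
  choose v hv hv' using hall
  refine Cfsg.Agent.H203.LS.card_le_of_weights (k := ℂ) (V := V) (ι := MulAction.orbit H0 S) (J := GolayPt)
    (fun p => ρ (e p)) v (fun O p => if p ∈ (O : Finset GolayPt) then (-1 : ℂ) else 1) hv (fun O p => hv' O p) ?_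
  intro A B hAB
  apply Subtype.ext
  ext p
  have h1 := congrFun hAB p
  by_cases hA : p ∈ (A : Finset GolayPt) <;> by_cases hB : p ∈ (B : Finset GolayPt)
  · exact ⟨fun _ => hB, fun _ => hA⟩
  · simp only [hA, hB, if_true, if_false] at h1
    norm_num at h1
  · simp only [hA, hB, if_true, if_false] at h1
    norm_num at h1
  · exact ⟨fun h => absurd h hA, fun h => absurd h hB⟩

end Cfsg.Agent.H49.Fpf.FiDeg
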