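import Cfsg.Agent.H49.Fpf.MonF
import Cfsg.Agent.H49.Fpf.MonG
import Cfsg.Agent.H49.Fpf.MonH

/-!
# S4228: the row of the Monster (helper49)
-/

set_option autoImplicit false

namespace Cfsg.Agent.H49.Fpf.Mon

open Cfsg Cfsg.Agent.H80.Fpf

/-- **The row of the Monster.** -/
theorem row_m (hk : ∀ (T : Type) [Group T] [Finite T] [IsSimpleGroup T], IsKnownSimple' T) :
    Row Cfsg.Spor.Monster := by
  refine Cfsg.Agent.H844.Fpf.row_by isM.2 19 41 [2, 3, 5, 7, 11, 13, 17, 19, 23, 29, 31, 41, 47, 59, 71]
    [3, 5, 7, 11, 13, 17, 23, 29, 31, 47, 59, 71] (by decide +kernel) 46 (by decide +kernel) (by decide) (by decide) ?_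
  intro r hr
  simp only [List.mem_cons, List.not_mem_nil, or_false] at hr
  rcases hr with rfl | rfl | rfl | rfl | rfl | rfl | rfl | rfl | rfl | rfl | rfl | rfl
  · exact not_may_E (by norm_num) (by norm_num) (by norm_num)
  · exact not_may_E (by norm_num) (by norm_num) (by norm_num)
  · exact not_may_E (by norm_num) (by norm_num) (by norm_num)
  · exact not_may_Q (by norm_num) (by norm_num) (good_two_of_dvd (q := 5) (by norm_num) (by norm_num) (by norm_num))
      (by norm_num)
  · exact not_may_Q (by norm_num) (by norm_num) (good_two_of_dvd (q := 3) (by norm_num) (by norm_num) (by norm_num))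
      (by norm_num)
  · exact not_may_E (by norm_num) (by norm_num) (by norm_num)
  · exact not_may_Q (by norm_num) (by norm_num) (good_two_of_dvd (q := 11) (by norm_num) (by norm_num) (by norm_num))
      (by norm_num)
  · exact not_may_29
  · exact not_may_E (by norm_num) (by norm_num) (by norm_num)
  · exact not_may_47
  · exact not_may_big hk (Or.inl rfl)
  · exact not_may_big hk (Or.inr rfl)

end Cfsg.Agent.H49.Fpf.Mon
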