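import Cfsg.Agent.H49.Fpf.Loc1

/-!
# Automorphisms of a group with `r + 1` Sylow `r`-subgroups of order `r` (helper49)

An automorphism of `l`-power order, `l ≠ r`, fixing an element of order `r` is trivial, if the group is quasisimple.
-/

set_option autoImplicit false

namespace Cfsg.Agent.H49.Fpf

open Subgroup
open scoped Pointwise commutatorElement

universe u

variable {A : Type u} [Group A] [Finite A] {r : ℕ} [hr : Fact r.Prime]

/-- the Sylow subgroup generated by an element of order `r` -/
theorem exists_sylow (hr2 : ¬ r ^ 2 ∣ Nat.card A) {x : A} (hx : orderOf x = r) :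
    ∃ P : Sylow r A, (P : Subgroup A) = zpowers x := by
  have hf : (Nat.card A).factorization r = 1 := by
    have h1 : r ∣ Nat.card A := by
      rw [← hx]
      exact orderOf_dvd_natCard x
    have h2 : 1 ≤ (Nat.card A).factorization r :=
      (hr.out.dvd_iff_one_le_factorization Nat.card_pos.ne').1 h1
    have h3 : ¬ 2 ≤ (Nat.card A).factorization r := by
      intro h
      exact hr2 ((hr.out.pow_dvd_iff_le_factorization Nat.card_pos.ne').2 h)
    omega
  have hcx : Nat.card (zpowers x) = r ^ (Nat.card A).factorization r := by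
    rw [hf, pow_one, Nat.card_zpowers, hx]
  exact ⟨Sylow.ofCard (zpowers x) hcx, rfl⟩

/-- every Sylow subgroup is generated by an element of order `r` -/
theorem exists_gen (hr2 : ¬ r ^ 2 ∣ Nat.card A) (hd : r ∣ Nat.card A) (P : Sylow r A) :
    ∃ x : A, orderOf x = r ∧ (P : Subgroup A) = zpowers x := by
  have hd' : r ∣ Nat.card (P : Subgroup A) := P.dvd_card_of_dvd_card hd
  obtain ⟨⟨x, hxP⟩, hx⟩ := exists_prime_orderOf_dvd_card' (G := (P : Subgroup A)) r hd'
  rw [Subgroup.orderOf_mk] at hx
  obtain ⟨Q, hQ⟩ := exists_sylow hr2 hx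
  refine ⟨x, hx, ?_⟩
  have h1 : (Q : Subgroup A) ≤ (P : Subgroup A) := by
    rw [hQ]
    exact zpowers_le.2 hxP
  rw [← hQ]
  exact (Q.is_maximal' P.isPGroup' h1)

/-- **the lemma** -/
theorem aut_trivial (hr2 : ¬ r ^ 2 ∣ Nat.card A) (hcount : Nat.card (Sylow r A) = r + 1)
    (hA : QT r A) {l k : ℕ} (hl : l.Prime) (hlr : l ≠ r)
    (φ : MulAut A) (hφ : φ ^ (l ^ k) = 1) {x : A} (hx : orderOf x = r) (hφx : φ x = x) : φ = 1 := by
  have hlF : Fact l.Prime := ⟨hl⟩
  have hd : r ∣ Nat.card A := by
    rw [← hx]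
    exact orderOf_dvd_natCard x
  obtain ⟨P, hP⟩ := exists_sylow hr2 hx
  have hφP : φ • P = P := by
    apply Sylow.ext
    change φ • (P : Subgroup A) = P
    rw [hP]
    ext y
    rw [mem_pointwise_smul_iff_inv_smul_mem]
    constructor
    · rintro ⟨i, hi⟩
      have hi : x ^ i = φ⁻¹ • y := hi
      refine ⟨i, ?_⟩
      have h4 : φ (x ^ i) = φ (φ⁻¹ • y) := by rw [hi]
      rw [map_zpow, hφx] at h4
      change x ^ i = y
      rw [h4]
      exact φ.apply_symm_apply y
    · rintro ⟨i, rfl⟩
      refine ⟨i, ?_⟩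
      have h4 : φ⁻¹ x = x := by
        have h6 : φ⁻¹ (φ x) = x := φ.symm_apply_apply x
        rwa [hφx] at h6
      change x ^ i = φ⁻¹ (x ^ i)
      rw [map_zpow, h4]
  -- a second fixed Sylow subgroup
  obtain ⟨P', hP', hfix⟩ : ∃ P' : Sylow r A, P' ≠ P ∧ φ • P' = P' := by
    by_contra hcon
    push Not at hcon
    classical
    have hfin : Fintype (Sylow r A) := Fintype.ofFinite _
    let f : Function.End (Sylow r A) := fun Q => φ • Q
    have hf : f ^ l ^ k = 1 := by
      have h1 : ∀ n : ℕ, ∀ Q : Sylow r A, (f ^ n) Q = (φ ^ n) • Q := by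
        intro n
        induction n with
        | zero =>
          intro Q
          rw [pow_zero, pow_zero, one_smul]
          rfl
        | succ n ih =>
          intro Q
          rw [pow_succ, pow_succ, mul_smul, ← ih]
          rfl
      funext Q
      rw [h1, hφ, one_smul]
      rfl
    have h2 := Equiv.Perm.card_fixedPoints_modEq (p := l) (n := k) hf
    have h3 : Fintype.card f.fixedPoints = 1 := by
      rw [Fintype.card_eq_one_iff]
      refine ⟨⟨P, hφP⟩, ?_⟩
      rintro ⟨Q, hQ⟩
      by_contra hne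
      apply hcon Q (fun h => hne (Subtype.ext h))
      exact hQ
    rw [h3, Fintype.card_eq_nat_card, hcount] at h2
    have h4 : l ∣ r := by
      have h5 := (Nat.modEq_iff_dvd' (by omega : 1 ≤ r + 1)).1 h2.symm
      simpa using h5
    exact hlr ((Nat.prime_dvd_prime_iff_eq hl hr.out).1 h4)
  -- `x` normalises no other Sylow subgroup
  have hxn : ∀ Q : Sylow r A, Q ≠ P → ∀ i : ℤ, x ^ i • Q = Q → x ^ i = 1 := by
    intro Q hQ i hi
    by_contra hi1
    have h1 : x ^ i ∈ normalizer ((Q : Subgroup A) : Set A) := Sylow.smul_eq_iff_mem_normalizer.1 hi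
    have h2 : IsPGroup r (zpowers (x ^ i)) := by
      have : IsPGroup r (zpowers x) := IsPGroup.of_card (n := 1) (by rw [Nat.card_zpowers, hx, pow_one])
      exact this.to_le (zpowers_le.2 (Subgroup.zpow_mem _ (mem_zpowers x) i))
    have h3 : IsPGroup r ↥(zpowers (x ^ i) ⊔ (Q : Subgroup A)) :=
      h2.to_sup_of_normal_right' Q.isPGroup' (zpowers_le.2 h1)
    have h4 := Q.is_maximal' h3 le_sup_right
    have h5 : x ^ i ∈ (Q : Subgroup A) := by
      rw [← h4]
      exact (le_sup_left : zpowers (x ^ i) ≤ _) (mem_zpowers _)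
    obtain ⟨x', hx', hQx'⟩ := exists_gen hr2 hd Q
    apply hQ
    apply Sylow.ext
    rw [hP]
    -- `⟨x^i⟩ = ⟨x⟩`
    have h6 : zpowers (x ^ i) = zpowers x := by
      have h11 : x ^ i ∈ zpowers x := ⟨i, rfl⟩
      apply Subgroup.eq_of_le_of_card_ge (zpowers_le.2 h11)
      rw [Nat.card_zpowers, Nat.card_zpowers, hx]
      have h7 : orderOf (x ^ i) ∣ r := by
        have h9 : x ^ i ∈ zpowers x := ⟨i, rfl⟩
        have h10 := orderOf_dvd_of_mem_zpowers h9
        rwa [hx] at h10
      rcases (Nat.dvd_prime hr.out).1 h7 with h8 | h8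
      · exact absurd (orderOf_eq_one_iff.1 h8) hi1
      · exact h8.ge
    symm
    apply Subgroup.eq_of_le_of_card_ge
    · rw [← h6]
      exact zpowers_le.2 h5
    · rw [hQx', Nat.card_zpowers, Nat.card_zpowers, hx, hx']
  -- `φ` fixes all Sylow subgroups
  have hall : ∀ Q : Sylow r A, φ • Q = Q := by
    classical
    -- the orbit of `P'`
    let F : Option (Fin r) → Sylow r A := fun o => o.elim P (fun i => x ^ (i : ℕ) • P')
    have hF : Function.Injective F := by
      have hne : ∀ i : Fin r, x ^ (i : ℕ) • P' ≠ P := by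
        intro i hi
        apply hP'
        have h1 : P' = (x ^ (i : ℕ))⁻¹ • P := by rw [← hi, inv_smul_smul]
        rw [h1, Sylow.smul_eq_iff_mem_normalizer]
        apply le_normalizer
        rw [hP]
        exact (zpowers x).inv_mem (Subgroup.pow_mem _ (mem_zpowers x) _)
      intro a b hab
      match a, b with
      | none, none => rfl
      | none, some i => exact absurd hab.symm (hne i)
      | some i, none => exact absurd hab (hne i)
      | some i, some j =>
        have h1 : x ^ (i : ℕ) • P' = x ^ (j : ℕ) • P' := hab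
        have h2 : x ^ ((i : ℤ) - (j : ℤ)) • P' = P' := by
          rw [sub_eq_add_neg, add_comm, zpow_add, mul_smul, zpow_natCast, h1, zpow_neg, zpow_natCast, inv_smul_smul]
        have h3 := hxn P' hP' _ h2
        have h4 : (orderOf x : ℤ) ∣ (i : ℤ) - (j : ℤ) := orderOf_dvd_iff_zpow_eq_one.2 h3
        rw [hx] at h4
        have h5 : (i : ℕ) = (j : ℕ) := by
          have := i.2
          have := j.2
          obtain ⟨m, hm⟩ := h4
          have hm0 : m = 0 := by
            by_contra hm0
            rcases lt_or_gt_of_ne hm0 with h6 | h6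
            · have : (r : ℤ) * m ≤ -r := by nlinarith
              omega
            · have : (r : ℤ) ≤ (r : ℤ) * m := by nlinarith
              omega
          rw [hm0, mul_zero] at hm
          omega
        rw [Fin.ext h5]
    have hFs : Function.Surjective F := by
      have h2 : Nat.card (Option (Fin r)) = Nat.card (Sylow r A) := by
        rw [hcount, Nat.card_eq_fintype_card, Fintype.card_option, Fintype.card_fin]
      exact ((Nat.bijective_iff_injective_and_card F).2 ⟨hF, h2⟩).2
    intro Q
    obtain ⟨o, rfl⟩ := hFs Q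
    match o with
    | none => exact hφP
    | some i =>
      change φ • (x ^ (i : ℕ) • P') = x ^ (i : ℕ) • P'
      have h1 : φ • (x ^ (i : ℕ) • P') = (φ (x ^ (i : ℕ))) • (φ • P') := by
        apply Sylow.ext
        change φ • (MulAut.conj (x ^ (i : ℕ)) • (P' : Subgroup A)) = MulAut.conj (φ (x ^ (i : ℕ))) • (φ • (P' : Subgroup A))
        rw [smul_smul, smul_smul]
        congr 1
        ext a
        simp only [MulAut.mul_apply, MulAut.conj_apply, map_mul, map_inv]
      rw [h1, map_pow, hφx, hfix]
  -- the normal subgroup of all elements normalising all Sylow subgroups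
  let K : Subgroup A := ⨅ Q : Sylow r A, normalizer ((Q : Subgroup A) : Set A)
  have hK : ∀ a : A, a ∈ K ↔ ∀ Q : Sylow r A, a • Q = Q := by
    intro a
    rw [mem_iInf]
    exact forall_congr' fun Q => (Sylow.smul_eq_iff_mem_normalizer).symm
  have hKn : K.Normal := by
    refine ⟨fun a ha g => ?_⟩
    rw [hK] at ha ⊢
    intro Q
    rw [mul_smul, mul_smul, ha, smul_inv_smul]
  have hKZ : K ≤ center A := by
    have hs := hA.simple
    have h1 : (K.map (QuotientGroup.mk' (center A))).Normal := hKn.map _ (QuotientGroup.mk'_surjective _)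
    rcases hs.eq_bot_or_eq_top_of_normal _ h1 with h3 | h3
    · intro a ha
      have h4 : QuotientGroup.mk' (center A) a ∈ K.map (QuotientGroup.mk' (center A)) := ⟨a, ha, rfl⟩
      rw [h3, mem_bot] at h4
      exact (QuotientGroup.eq_one_iff a).1 h4
    · exfalso
      have h4 : r ∣ Nat.card K := by
        have h5 : Nat.card (K.map (QuotientGroup.mk' (center A))) ∣ Nat.card K := card_map_dvd _ _
        rw [h3, card_top] at h5
        exact hA.dvd.trans h5
      obtain ⟨⟨y, hyK⟩, hy⟩ := exists_prime_orderOf_dvd_card' (G := K) r h4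
      rw [Subgroup.orderOf_mk] at hy
      -- conjugate of `⟨x⟩`, so `x ∈ K`
      obtain ⟨g, hg⟩ := exists_conj hr2 hx hy
      have h5 : g * x * g⁻¹ ∈ K := (zpowers_le.2 hyK) hg
      have h6 : x ∈ K := by
        have h7 := hKn.conj_mem _ h5 g⁻¹
        have h8 : g⁻¹ * (g * x * g⁻¹) * g⁻¹⁻¹ = x := by group
        rwa [h8] at h7
      have h7 := (hK x).1 h6 P'
      have h8 := hxn P' hP' 1 (by rw [zpow_one]; exact h7)
      rw [zpow_one] at h8
      rw [h8, orderOf_one] at hx
      exact hr.out.one_lt.ne hx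
  have hcen : ∀ a : A, a⁻¹ * φ a ∈ center A := by
    intro a
    apply hKZ
    rw [hK]
    intro Q
    have h1 : φ • (a • Q) = (φ a) • (φ • Q) := by
      apply Sylow.ext
      change φ • (MulAut.conj a • (Q : Subgroup A)) = MulAut.conj (φ a) • (φ • (Q : Subgroup A))
      rw [smul_smul, smul_smul]
      congr 1
      ext b
      simp only [MulAut.mul_apply, MulAut.conj_apply, map_mul, map_inv]
    rw [hall, hall] at h1
    rw [mul_smul, ← h1, inv_smul_smul]
  -- a homomorphism into the centre
  let ψ : A →* center A :=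
    { toFun := fun a => ⟨a⁻¹ * φ a, hcen a⟩
      map_one' := by
        apply Subtype.ext
        change (1 : A)⁻¹ * φ 1 = 1
        rw [map_one, inv_one, mul_one]
      map_mul' := by
        intro a b
        apply Subtype.ext
        change (a * b)⁻¹ * φ (a * b) = (a⁻¹ * φ a) * (b⁻¹ * φ b)
        have h1 := mem_center_iff.1 (hcen a) b⁻¹
        rw [map_mul, mul_inv_rev]
        calc b⁻¹ * a⁻¹ * (φ a * φ b) = b⁻¹ * (a⁻¹ * φ a) * φ b := by group
          _ = (a⁻¹ * φ a) * b⁻¹ * φ b := by rw [h1]
          _ = (a⁻¹ * φ a) * (b⁻¹ * φ b) := by group }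
  have hψ : ψ = 1 := by
    rw [← MonoidHom.ker_eq_top_iff, eq_top_iff, ← hA.perf, _root_.commutator_def, commutator_le]
    intro a _ b _
    rw [MonoidHom.mem_ker, map_commutatorElement, commutatorElement_eq_one_iff_mul_comm]
    exact Subtype.ext (mem_center_iff.1 (ψ b).2 (ψ a))
  ext a
  have h1 : a⁻¹ * φ a = 1 := congrArg (fun f : A →* center A => ((f a : center A) : A)) hψ
  rw [inv_mul_eq_one] at h1
  exact h1.symm

end Cfsg.Agent.H49.Fpf
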