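import Cfsg.Agent.H49.Fpf.Loc2
import Cfsg.Agent.H49.Fpf.AutTriv
import Cfsg.Agent.H23.FreeAct
import Cfsg.Agent.S0058
import Cfsg.Agent.S0126

/-!
# Fixed point free primes: local analysis 3 (helper49)
-/

set_option autoImplicit false

namespace Cfsg.Agent.H49.Fpf

open Cfsg Subgroup Cfsg.Agent.Lib Cfsg.Agent.H80.Fpf
open scoped Pointwise commutatorElement

universe u v

namespace Ctx

variable {G : Type u} [Group G] [Finite G] {r τ : ℕ} (c : Ctx r τ G) {x : G} (hx : orderOf x = r)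
include c hx

/-- the number of Sylow `r`-subgroups of `N` -/
theorem syl_count (hτ : ∀ n : ℕ, n ∣ τ → n % r = 1 → n = 1 ∨ n = r + 1) {D N : Subgroup G} (h : QS r x D N)
    (hD : D ≠ ⊤) : Nat.card (Sylow r ↥N) = r + 1 := by
  have : Fact r.Prime := ⟨c.prime⟩
  have hr2 : ¬ r ^ 2 ∣ Nat.card N := fun h' => c.sq (h'.trans (card_subgroup_dvd_card N))
  have hxo : orderOf (⟨x, h.mem⟩ : N) = r := by rw [Subgroup.orderOf_mk, hx]
  obtain ⟨P, hP⟩ := exists_sylow hr2 hxo
  have h1 : Nat.card (Sylow r ↥N) = (normalizer ((P : Subgroup ↥N) : Set ↥N)).index := Sylow.card_eq_index_normalizer P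
  have h2 : center ↥N ≤ normalizer ((P : Subgroup ↥N) : Set ↥N) := center_le_normalizer _
  have h3 : Nat.card (Sylow r ↥N) ∣ τ := by
    rw [h1, ← c.typ x D N hx hD h]
    exact index_dvd_of_le h2
  have h4 : Nat.card (Sylow r ↥N) % r = 1 := by
    have := card_sylow_modEq_one r ↥N
    rwa [Nat.ModEq, Nat.mod_eq_of_lt c.prime.one_lt] at this
  rcases hτ _ h3 h4 with h5 | h5
  · exfalso
    apply not_le hx h
    rw [h1, index_eq_one] at h5
    intro n hn
    have h6 : (⟨n, hn⟩ : N) ∈ normalizer ((P : Subgroup ↥N) : Set ↥N) := by rw [h5]; trivial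
    rw [hP, mem_normalizer_iff] at h6
    apply mem_Nx_of_conj
    obtain ⟨i, hi⟩ := (h6 ⟨x, h.mem⟩).1 (mem_zpowers _)
    exact ⟨i, congrArg Subtype.val hi⟩
  · exact h5

/-- an element of `l`-power order, `l ≠ r`, normalising `N` and centralising `x` centralises `N` -/
theorem act_triv (hτ : ∀ n : ℕ, n ∣ τ → n % r = 1 → n = 1 ∨ n = r + 1) {D N : Subgroup G} (h : QS r x D N)
    (hD : D ≠ ⊤) {g : G} {l k : ℕ} (hl : l.Prime) (hlr : l ≠ r) (hg : g ^ (l ^ k) = 1)
    (hgN : g ∈ normalizer (N : Set G)) (hgx : x * g = g * x) : ∀ n ∈ N, g * n = n * g := by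
  have : Fact r.Prime := ⟨c.prime⟩
  have hr2 : ¬ r ^ 2 ∣ Nat.card N := fun h' => c.sq (h'.trans (card_subgroup_dvd_card N))
  have hxo : orderOf (⟨x, h.mem⟩ : N) = r := by rw [Subgroup.orderOf_mk, hx]
  let φ : MulAut ↥N := N.normalizerMonoidHom ⟨g, hgN⟩
  have hφ : ∀ n : N, ((φ n : N) : G) = g * n * g⁻¹ := fun n => rfl
  have h1 : φ = 1 := by
    refine aut_trivial (k := k) hr2 (c.syl_count hx hτ h hD) h.qt hl hlr φ ?_ hxo ?_
    · rw [← map_pow]
      have h2 : (⟨g, hgN⟩ : normalizer (N : Set G)) ^ (l ^ k) = 1 := Subtype.ext hg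
      rw [h2, map_one]
    · apply Subtype.ext
      rw [hφ]
      change g * x * g⁻¹ = x
      rw [← hgx, mul_inv_cancel_right]
  intro n hn
  have h2 := hφ ⟨n, hn⟩
  rw [h1, MulAut.one_apply] at h2
  have h2 : n = g * n * g⁻¹ := h2
  rw [eq_mul_inv_iff_mul_eq] at h2
  exact h2.symm

omit hx in
omit [Finite G] in
theorem normalizer_ne_top {R : Subgroup G} (hR : R ≠ ⊥) (hR' : R ≠ ⊤) : normalizer (R : Set G) ≠ ⊤ := by
  intro h
  have h1 : R.Normal := normalizer_eq_top_iff.1 h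
  have := c.simple
  rcases h1.eq_bot_or_eq_top with h2 | h2
  · exact hR h2
  · exact hR' h2

/-- the two cases for an `l`-subgroup of `C(x)` -/
theorem cases {R : Subgroup G} (hR : R ≠ ⊥)
    (hRC : R ≤ Cx x) : normalizer (R : Set G) ≤ Nx x ∨ ∃ D N : Subgroup G, D ≠ ⊤ ∧ QS r x D N ∧
      ∀ y ∈ R, ∀ n ∈ N, y * n = n * y := by
  have hRT : R ≠ ⊤ := by
    intro h
    rw [h] at hRC
    have h1 : x ∈ center G := by
      rw [mem_center_iff]
      intro g
      exact (mem_Cx.1 (hRC (mem_top g))).symm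
    rw [c.centre, mem_bot] at h1
    rw [h1, orderOf_one] at hx
    exact c.prime.one_lt.ne hx
  have hD := c.normalizer_ne_top hR hRT
  have hxR : x ∈ centralizer (R : Set G) := by
    rw [mem_centralizer_iff]
    intro y hy
    exact (mem_Cx.1 (hRC hy)).symm
  rcases c.str hx (centralizer_le_normalizer _ hxR) with h1 | ⟨N, h1⟩
  · exact Or.inl h1
  · right
    refine ⟨_, N, hD, h1, ?_⟩
    have h2 : N ≤ centralizer (R : Set G) := by
      apply h1.min _ (centralizer_le_normalizer _) _ hxR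
      intro d hd m hm
      rw [mem_centralizer_iff] at hm ⊢
      intro y hy
      have h3 : d⁻¹ * y * d ∈ R := by
        have h4 := (mem_normalizer_iff.1 ((normalizer (R : Set G)).inv_mem hd) y).1 hy
        rwa [inv_inv] at h4
      have h4 := hm _ h3
      have h5 : y * (d * m * d⁻¹) = d * (d⁻¹ * y * d * m) * d⁻¹ := by group
      rw [h5, h4]
      group
    intro y hy n hn
    exact mem_centralizer_iff.1 (h2 hn) y hy

/-- case 1, `l` prime to `r - 1`: a Sylow `l`-subgroup of `C(x)` is a Sylow `l`-subgroup of `G` -/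
theorem full {R : Subgroup G} {l : ℕ} (hl : l.Prime) (hl1 : l.Coprime (r - 1)) (hRp : IsPGroup l R)
    (hRC : R ≤ Cx x) (hcard : Nat.card R = l ^ (Nat.card (Cx x)).factorization l)
    (hN : normalizer (R : Set G) ≤ Nx x) : ∃ P : Sylow l G, (P : Subgroup G) = R := by
  have hlF : Fact l.Prime := ⟨hl⟩
  obtain ⟨P, hP⟩ := hRp.exists_le_sylow
  refine ⟨P, ?_⟩
  by_contra hne
  obtain ⟨y, hyP, hyR, hyn⟩ := exists_grow P.isPGroup' hP (Ne.symm hne)
  obtain ⟨k, hk⟩ := P.isPGroup'.exists_card_eq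
  have hyo : (orderOf y).Coprime (r - 1) := by
    have h1 : orderOf y ∣ l ^ k := by
      rw [← hk, ← Subgroup.orderOf_mk y hyP]
      exact orderOf_dvd_natCard _
    exact Nat.Coprime.coprime_dvd_left h1 (Nat.Coprime.pow_left k hl1)
  have hyC := mem_Cx_of_coprime c.prime hx (hN hyn) hyo
  have h1 : R = (P : Subgroup G) ⊓ Cx x := by
    apply Subgroup.eq_of_le_of_card_ge (le_inf hP hRC)
    have h2 : IsPGroup l ↥((P : Subgroup G) ⊓ Cx x) := P.isPGroup'.to_le inf_le_left
    obtain ⟨m, hm⟩ := h2.exists_card_eq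
    have h3 : l ^ m ∣ Nat.card (Cx x) := by
      rw [← hm]
      exact card_dvd_of_le inf_le_right
    rw [hm, hcard]
    exact Nat.pow_le_pow_right hl.pos ((hl.pow_dvd_iff_le_factorization Nat.card_pos.ne').1 h3)
  apply hyR
  rw [h1]
  exact ⟨hyP, hyC⟩

omit c hx in
/-- every element of order `l` is conjugate into every Sylow `l`-subgroup -/
theorem conj_into {l : ℕ} (hl : l.Prime) (P : Sylow l G) {v : G} (hv : orderOf v = l) :
    ∃ g : G, g * v * g⁻¹ ∈ (P : Subgroup G) := by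
  have hlF : Fact l.Prime := ⟨hl⟩
  have h1 : IsPGroup l (zpowers v) := IsPGroup.of_card (n := 1) (by rw [Nat.card_zpowers, hv, pow_one])
  obtain ⟨Q, hQ⟩ := h1.exists_le_sylow
  obtain ⟨g, hg⟩ := MulAction.exists_smul_eq G Q P
  refine ⟨g, ?_⟩
  have h2 : (P : Subgroup G) = MulAut.conj g • (Q : Subgroup G) := by
    rw [← hg]
    rfl
  rw [h2]
  exact Subgroup.smul_mem_pointwise_smul v (MulAut.conj g) _ (hQ (mem_zpowers v))

omit c in
/-- if a Sylow `l`-subgroup of `G` centralises `x`, all elements of order `l` commute with elements of order `r` -/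
theorem comm_of_full {l : ℕ} (hl : l.Prime) (P : Sylow l G) (hP : (P : Subgroup G) ≤ Cx x) {v : G}
    (hv : orderOf v = l) : ∃ x' : G, orderOf x' = r ∧ x' * v = v * x' := by
  obtain ⟨g, hg⟩ := conj_into hl P hv
  refine ⟨g⁻¹ * x * g, ?_, ?_⟩
  · have h1 := (MulAut.conj g⁻¹).orderOf_eq x
    rw [MulAut.conj_apply, inv_inv, hx] at h1
    exact h1
  · have h1 := mem_Cx.1 (hP hg)
    calc g⁻¹ * x * g * v = g⁻¹ * (x * (g * v * g⁻¹)) * g := by group
      _ = g⁻¹ * (g * v * g⁻¹ * x) * g := by rw [h1]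
      _ = v * (g⁻¹ * x * g) := by group

/-- the centraliser of an element commuting with `x` and with an element `w` of order prime to `r - 1` that does not
commute with `x` -/
theorem qs_of_w {v w : G} (hxv : x * v = v * x) (hvw : v * w = w * v)
    (hw : (orderOf w).Coprime (r - 1)) (hwx : x * w ≠ w * x) : ∃ N : Subgroup G,
      QS r x (centralizer ({v} : Set G)) N ∧ ∀ n ∈ N, v * n = n * v := by
  rcases c.str hx (mem_Cx.2 hxv.symm : x ∈ centralizer ({v} : Set G)) with h1 | ⟨N, h1⟩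
  · exfalso
    have h2 : w ∈ Nx x := h1 (mem_Cx.2 hvw)
    exact hwx (mem_Cx.1 (mem_Cx_of_coprime c.prime hx h2 hw))
  · exact ⟨N, h1, fun n hn => mem_Cx.1 (h1.le hn)⟩

end Ctx

end Cfsg.Agent.H49.Fpf
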