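import Cfsg.Agent.H49.Fpf.Loc3

/-!
# Fixed point free primes: local analysis 4, subgroups centralising `N` (helper49)
-/

set_option autoImplicit false

namespace Cfsg.Agent.H49.Fpf

open Cfsg Subgroup Cfsg.Agent.Lib Cfsg.Agent.H80.Fpf
open scoped Pointwise commutatorElement

universe u v

/-- in a cyclic group an element of order `l` lies in every subgroup generated by an element of order divisible by `l` -/
theorem cyc_unique {R : Type u} [Group R] [Finite R] [IsCyclic R] {l : ℕ} (hl : l.Prime) {y d : R}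
    (hy : orderOf y = l) (hd : l ∣ orderOf d) : y ∈ zpowers d := by
  classical
  have : Fintype R := Fintype.ofFinite R
  have hd' : orderOf (d ^ (orderOf d / l)) = l := orderOf_pow_orderOf_div (orderOf_pos d).ne' hd
  have h1 := IsCyclic.card_pow_eq_one_le (α := R) hl.pos
  have h2 : (zpowers (d ^ (orderOf d / l)) : Set R) = {a : R | a ^ l = 1} := by
    apply Set.eq_of_subset_of_ncard_le
    · intro a ha
      obtain ⟨i, rfl⟩ := ha
      change ((d ^ (orderOf d / l)) ^ i) ^ l = 1
      rw [← zpow_natCast, ← zpow_mul, mul_comm, zpow_mul, zpow_natCast]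
      nth_rewrite 2 [← hd']
      rw [pow_orderOf_eq_one, one_zpow]
    · have h3 : (zpowers (d ^ (orderOf d / l)) : Set R).ncard = l := by
        rw [← Nat.card_coe_set_eq]
        exact (Nat.card_zpowers _).trans hd'
      rw [h3]
      refine le_trans (le_of_eq ?_) h1
      rw [Set.ncard_eq_toFinset_card']
      congr 1
      ext a
      simp
    · exact Set.toFinite _
  have h3 : y ∈ {a : R | a ^ l = 1} := by
    change y ^ l = 1
    rw [← hy, pow_orderOf_eq_one]
  rw [← h2] at h3
  exact (zpowers_le.2 (Subgroup.pow_mem _ (mem_zpowers d) _)) h3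

/-- `C(t)` normalises a subgroup of order `2 ^ q` containing `t` -/
def QHyp (q : ℕ) {G : Type u} [Group G] (t : G) : Prop :=
  ∃ Q : Subgroup G, Nat.card Q = 2 ^ q ∧ t ∈ Q ∧ ∀ g : G, g * t = t * g → ∀ y ∈ Q, g * y * g⁻¹ ∈ Q

namespace Ctx

variable {G : Type u} [Group G] [Finite G] {r τ : ℕ} (c : Ctx r τ G) {x : G} (hx : orderOf x = r)
include c hx

/-- a `2`-subgroup of the centraliser of an element centralising `N` -/
theorem card_two_dvd {D N : Subgroup G} (h : QS r x D N) (hD : D ≠ ⊤) {A : Subgroup G} {a : ℕ}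
    (hA : Nat.card A = 2 ^ a) {D' : Subgroup G} (hD' : D' ≠ ⊤) (hle : N ≤ D') (hAD : A ≤ D') :
    2 ^ a ∣ τ * (r - 1) := by
  have h1 := c.of_le hx h hD hD' hle
  refine c.two_D hx h1 hD' ?_
  rw [← hA]
  exact card_dvd_of_le hAD

omit [Finite G] in
theorem N_normalizer {D N : Subgroup G} (h : QS r x D N) (hD : D ≠ ⊤) : normalizer (N : Set G) ≠ ⊤ := by
  apply c.normalizer_ne_top
  · intro h1
    have h2 := h.mem
    rw [h1, mem_bot] at h2
    rw [h2, orderOf_one] at hx
    exact c.prime.one_lt.ne hx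
  · intro h1
    apply hD
    rw [eq_top_iff, ← h1]
    exact h.le

/-- **the order of an `l`-subgroup centralising `N`** -/
theorem card_R {D N : Subgroup G} (h : QS r x D N) (hD : D ≠ ⊤) {t : G} (htN : t ∈ N) (ht : orderOf t = 2) {q : ℕ}
    (hq : QHyp q t) (hqτ : ¬ 2 ^ q ∣ τ * (r - 1)) {l : ℕ} (hl : l.Prime) (hl2 : l ≠ 2) {R : Subgroup G}
    (hRp : IsPGroup l R) (hRN : ∀ y ∈ R, ∀ n ∈ N, y * n = n * y) (hR : R ≠ ⊥) :
    IsCyclic R ∧ ∃ a : ℕ, 1 ≤ a ∧ a ≤ q ∧ 2 ^ a ∣ τ * (r - 1) ∧ Nat.card R ∣ 2 ^ q - 2 ^ a := by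
  have hlF : Fact l.Prime := ⟨hl⟩
  have h2F : Fact (Nat.Prime 2) := ⟨Nat.prime_two⟩
  obtain ⟨Q, hQ, htQ, hQn⟩ := hq
  have hQp : IsPGroup 2 Q := IsPGroup.of_card hQ
  have hRt : ∀ y ∈ R, y * t = t * y := fun y hy => hRN y hy t htN
  -- the centralisers
  have hcy : ∀ y ∈ R, y ≠ 1 → QS r x (centralizer ({y} : Set G)) N := fun y hy hy1 =>
    c.cent hx h hD hy1 (hRN y hy)
  have hcyc : IsCyclic R := by
    by_contra hnc
    obtain ⟨A, -, ⟨hA, hexp⟩, hc⟩ := Cfsg.Agent.S0126.result hl2 hRp hnc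
    let E : Subgroup G := A.map R.subtype
    have hE : IsMulCommutative E := by
      refine ⟨⟨?_⟩⟩
      rintro ⟨_, a, ha, rfl⟩ ⟨_, b, hb, rfl⟩
      apply Subtype.ext
      have := hA.is_comm.comm ⟨a, ha⟩ ⟨b, hb⟩
      exact congrArg (fun z : A => ((z : R) : G)) this
    have hEc : Nat.card E = l ^ 2 := by
      rw [← hc]
      exact Subgroup.card_map_of_injective R.subtype_injective
    have hER : E ≤ R := map_subtype_le A
    have hEnc : ¬ IsCyclic E := by
      intro hcy
      obtain ⟨⟨g, hg⟩, hgen⟩ := hcy.exists_generator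
      have h1 : orderOf (⟨g, hg⟩ : E) = l ^ 2 := by
        rw [← hEc, orderOf_eq_card_of_forall_mem_zpowers hgen]
      have h2 : (⟨g, hg⟩ : E) ^ l = 1 := by
        obtain ⟨a, ha, hag⟩ := hg
        apply Subtype.ext
        change g ^ l = 1
        have h3 : a ^ l = 1 := hexp a ha
        rw [← hag, ← map_pow, h3, map_one]
      have h3 := orderOf_dvd_of_pow_eq_one h2
      rw [h1] at h3
      have h4 := Nat.le_of_dvd hl.pos h3
      have := hl.one_lt
      nlinarith
    have hEQ : E ≤ normalizer (Q : Set G) := by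
      intro e he
      rw [mem_normalizer_iff]
      have h1 := hRt e (hER he)
      intro y
      constructor
      · exact hQn e h1 y
      · intro hy
        have h2 : e⁻¹ * t = t * e⁻¹ := by
          rw [inv_mul_eq_iff_eq_mul, ← mul_assoc, h1, mul_inv_cancel_right]
        have h3 := hQn e⁻¹ h2 _ hy
        have h4 : e⁻¹ * (e * y * e⁻¹) * e⁻¹⁻¹ = y := by group
        rwa [h4] at h3
    have hcop : (Nat.card E).Coprime (Nat.card Q) := by
      rw [hEc, hQ]
      exact Nat.Coprime.pow _ _ ((Nat.coprime_primes hl Nat.prime_two).2 hl2)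
    have h1 := Cfsg.Agent.S0058.result E Q hEnc hEQ hcop
    have h2 : Q ≤ normalizer (N : Set G) := by
      rw [← h1]
      refine iSup₂_le ?_
      rintro e ⟨he, he1⟩
      have h3 := hcy e (hER he) he1
      intro g hg
      have hg' := hg.2
      rw [mem_normalizer_iff]
      intro n
      constructor
      · exact h3.norm g hg' n
      · intro hn
        have h4 := h3.norm g⁻¹ ((centralizer ({e} : Set G)).inv_mem hg') _ hn
        have h5 : g⁻¹ * (g * n * g⁻¹) * g⁻¹⁻¹ = n := by group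
        rwa [h5] at h4
    exact hqτ (c.card_two_dvd hx h hD hQ (c.N_normalizer hx h hD) le_normalizer h2)
  refine ⟨hcyc, ?_⟩
  -- an element of order `l`
  have hRl : l ∣ Nat.card R := by
    obtain ⟨k, hk⟩ := hRp.exists_card_eq
    rw [hk]
    refine dvd_pow_self l ?_
    rintro rfl
    rw [pow_zero, Subgroup.card_eq_one] at hk
    exact hR hk
  obtain ⟨⟨y, hyR⟩, hy⟩ := exists_prime_orderOf_dvd_card' (G := R) l hRl
  have hy1 : y ≠ 1 := by
    rintro rfl
    have : (⟨1, hyR⟩ : R) = 1 := rfl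
    rw [this, orderOf_one] at hy
    exact hl.one_lt.ne hy
  -- every nontrivial element of `R` has `y` as a power
  have huniq : ∀ d ∈ R, d ≠ 1 → y ∈ zpowers d := by
    intro d hd hd1
    have h1 : l ∣ orderOf (⟨d, hd⟩ : R) := by
      obtain ⟨k, hk⟩ := hRp ⟨d, hd⟩
      obtain ⟨m, -, hm⟩ := (Nat.dvd_prime_pow hl).1 (orderOf_dvd_of_pow_eq_one hk)
      rw [hm]
      refine dvd_pow_self l ?_
      rintro rfl
      rw [pow_zero, orderOf_eq_one_iff] at hm
      exact hd1 (congrArg Subtype.val hm)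
    have h2 : (⟨y, hyR⟩ : R) ∈ zpowers (⟨d, hd⟩ : R) := cyc_unique hl hy h1
    obtain ⟨i, hi⟩ := h2
    exact ⟨i, congrArg Subtype.val hi⟩
  let W : Subgroup G := Q ⊓ centralizer ({y} : Set G)
  have hWp : IsPGroup 2 W := hQp.to_le inf_le_left
  obtain ⟨a, ha⟩ := hWp.exists_card_eq
  have htW : t ∈ W := ⟨htQ, mem_Cx.2 (hRt y hyR)⟩
  have h1a : 1 ≤ a := by
    by_contra h0
    have h0 : a = 0 := by omega
    rw [h0, pow_zero, Subgroup.card_eq_one] at ha
    rw [ha, mem_bot] at htW
    rw [htW, orderOf_one] at ht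
    omega
  have haq : a ≤ q := by
    have h3 : Nat.card W ∣ Nat.card Q := card_dvd_of_le inf_le_left
    rw [ha, hQ] at h3
    exact (Nat.pow_dvd_pow_iff_le_right (by norm_num)).1 h3
  have haτ : 2 ^ a ∣ τ * (r - 1) :=
    c.card_two_dvd hx h hD ha (c.cent_ne_top hy1) (hcy y hyR hy1).le inf_le_right
  refine ⟨a, h1a, haq, haτ, ?_⟩
  -- the free action
  let α : Type u := {g : Q // (g : G) ∉ W}
  let act : MulAction R α :=
    { smul := fun d g => ⟨⟨(d : G) * g.1 * (d : G)⁻¹, hQn d (hRt d d.2) _ g.1.2⟩, by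
        intro hW
        apply g.2
        refine ⟨g.1.2, ?_⟩
        have h3 : (d : G) * g.1 * (d : G)⁻¹ ∈ centralizer ({y} : Set G) := hW.2
        rw [mem_Cx] at h3
        change (g.1 : G) ∈ centralizer ({y} : Set G)
        rw [mem_Cx]
        -- `y` commutes with `d` since `R` is cyclic
        have hdy : y * (d : G) = d * y := by
          let _ := IsCyclic.commGroup (α := R)
          exact congrArg Subtype.val (mul_comm (⟨y, hyR⟩ : R) d)
        have h4 : y * ((d : G) * g.1 * (d : G)⁻¹) = (d : G) * g.1 * (d : G)⁻¹ * y := h3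
        have h5 : (d : G)⁻¹ * y = y * (d : G)⁻¹ := by
          rw [inv_mul_eq_iff_eq_mul, ← mul_assoc, ← hdy, mul_inv_cancel_right]
        have h6 : (d : G) * (y * g.1) * (d : G)⁻¹ = (d : G) * (g.1 * y) * (d : G)⁻¹ := by
          calc (d : G) * (y * g.1) * (d : G)⁻¹ = ((d : G) * y) * (g.1 * (d : G)⁻¹) := by group
            _ = (y * d) * (g.1 * (d : G)⁻¹) := by rw [hdy]
            _ = y * ((d : G) * g.1 * (d : G)⁻¹) := by group
            _ = (d : G) * g.1 * (d : G)⁻¹ * y := h4
            _ = (d : G) * g.1 * ((d : G)⁻¹ * y) := by group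
            _ = (d : G) * g.1 * (y * (d : G)⁻¹) := by rw [h5]
            _ = (d : G) * (g.1 * y) * (d : G)⁻¹ := by group
        exact mul_left_cancel (mul_right_cancel h6)⟩
      one_smul := by
        intro g
        apply Subtype.ext
        apply Subtype.ext
        change (1 : G) * g.1 * (1 : G)⁻¹ = g.1
        rw [inv_one, mul_one, one_mul]
      mul_smul := by
        intro d e g
        apply Subtype.ext
        apply Subtype.ext
        change ((d * e : R) : G) * g.1 * ((d * e : R) : G)⁻¹ = (d : G) * ((e : G) * g.1 * (e : G)⁻¹) * (d : G)⁻¹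
        push_cast
        group }
  have hfree : ∀ (d : R) (g : α), d • g = g → d = 1 := by
    intro d g hdg
    by_contra hd
    have h3 : (d : G) * g.1 * (d : G)⁻¹ = g.1 := congrArg (fun z : α => ((z.1 : Q) : G)) hdg
    have h4 : (d : G) ∈ centralizer ({(g.1 : G)} : Set G) := by
      rw [mem_Cx]
      exact (mul_inv_eq_iff_eq_mul.1 h3).symm
    have h5 := huniq d d.2 (fun h' => hd (Subtype.ext h'))
    have h6 : y ∈ centralizer ({(g.1 : G)} : Set G) := (zpowers_le.2 h4) h5
    exact g.2 ⟨g.1.2, mem_Cx.2 (mem_Cx.1 h6).symm⟩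
  have h3 := Cfsg.Agent.H23.FreeAct.card_dvd_of_free hfree
  have h4 : Nat.card α = 2 ^ q - 2 ^ a := by
    classical
    have hf : Fintype Q := Fintype.ofFinite Q
    have e1 : Nat.card α + Nat.card {g : Q // (g : G) ∈ W} = Nat.card Q := by
      rw [Nat.card_eq_fintype_card, Nat.card_eq_fintype_card, Nat.card_eq_fintype_card]
      have := Fintype.card_subtype_compl (fun g : Q => (g : G) ∈ W)
      have h5 := Fintype.card_subtype_le (fun g : Q => (g : G) ∈ W)
      have h6 : Fintype.card α = Fintype.card {g : Q // ¬ (g : G) ∈ W} := rfl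
      rw [h6, this]
      omega
    have e2 : Nat.card {g : Q // (g : G) ∈ W} = Nat.card W := by
      apply Nat.card_congr
      exact (subgroupOfEquivOfLe (inf_le_left : W ≤ Q)).toEquiv
    rw [e2, ha, hQ] at e1
    omega
  rw [← h4]
  exact h3

end Ctx

end Cfsg.Agent.H49.Fpf
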