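import Cfsg.Agent.H49.Fpf.Loc4

/-!
# Fixed point free primes: local analysis 5, case 1 (helper49)
-/

set_option autoImplicit false

namespace Cfsg.Agent.H49.Fpf

open Cfsg Subgroup Cfsg.Agent.Lib Cfsg.Agent.H80.Fpf
open scoped Pointwise commutatorElement

universe u v

/-- the divisors of `τ` congruent to `1` modulo `r` -/
def Tau (r τ : ℕ) : Prop := ∀ n : ℕ, n ∣ τ → n % r = 1 → n = 1 ∨ n = r + 1

/-- `R` is a Sylow `l`-subgroup of `C(x)` -/
structure SylC {G : Type u} [Group G] (l : ℕ) (x : G) (R : Subgroup G) : Prop where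
  le : R ≤ Cx x
  card : Nat.card R = l ^ (Nat.card (Cx x)).factorization l

theorem SylC.pgroup {G : Type u} [Group G] {l : ℕ} {x : G} {R : Subgroup G} (h : SylC l x R) : IsPGroup l R :=
  IsPGroup.of_card h.card

theorem exists_sylC {G : Type u} [Group G] [Finite G] {l : ℕ} (hl : l.Prime) (x : G) : ∃ R : Subgroup G, SylC l x R := by
  have : Fact l.Prime := ⟨hl⟩
  let L : Sylow l (Cx x) := default
  refine ⟨(L : Subgroup (Cx x)).map (Cx x).subtype, map_subtype_le _, ?_⟩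
  rw [Subgroup.card_map_of_injective (Cx x).subtype_injective, L.card_eq_multiplicity]

theorem SylC.ne_bot {G : Type u} [Group G] [Finite G] {l : ℕ} {x : G} {R : Subgroup G} (h : SylC l x R) (hl : l.Prime)
    (hd : l ∣ Nat.card (Cx x)) : R ≠ ⊥ := by
  intro h1
  have h2 := h.card
  rw [h1, Subgroup.card_bot] at h2
  have h3 : 1 ≤ (Nat.card (Cx x)).factorization l := (hl.dvd_iff_one_le_factorization Nat.card_pos.ne').1 hd
  have h4 : l ∣ l ^ (Nat.card (Cx x)).factorization l := dvd_pow_self l (by omega)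
  rw [← h2, Nat.dvd_one] at h4
  exact hl.one_lt.ne' h4

/-- an `l`-subgroup of `C(x)` containing `R` is `R` -/
theorem SylC.eq {G : Type u} [Group G] [Finite G] {l : ℕ} {x : G} {R : Subgroup G} (h : SylC l x R) (hl : l.Prime)
    {S : Subgroup G} (hS : IsPGroup l S) (hRS : R ≤ S) (hSC : S ≤ Cx x) : R = S := by
  have : Fact l.Prime := ⟨hl⟩
  apply Subgroup.eq_of_le_of_card_ge hRS
  obtain ⟨m, hm⟩ := hS.exists_card_eq
  have h3 : l ^ m ∣ Nat.card (Cx x) := by
    rw [← hm]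
    exact card_dvd_of_le hSC
  rw [hm, h.card]
  exact Nat.pow_le_pow_right hl.pos ((hl.pow_dvd_iff_le_factorization Nat.card_pos.ne').1 h3)

namespace Ctx

variable {G : Type u} [Group G] [Finite G] {r τ : ℕ} (c : Ctx r τ G) {x : G} (hx : orderOf x = r)
include c hx

/-- **(H2)** in case 1 the centralisers of the nontrivial elements of `R` lie in `N(⟨x⟩)` -/
theorem h2 (hτ : Tau r τ) {l : ℕ} (hl : l.Prime) (hlr : l ≠ r) {R : Subgroup G} (hR : SylC l x R)
    (hN : normalizer (R : Set G) ≤ Nx x) {y : G} (hy : y ∈ R) (hy1 : y ≠ 1) :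
    centralizer ({y} : Set G) ≤ Nx x := by
  have hlF : Fact l.Prime := ⟨hl⟩
  have hxy : x ∈ centralizer ({y} : Set G) := mem_Cx.2 (mem_Cx.1 (hR.le hy)).symm
  rcases c.str hx hxy with h1 | ⟨N, h1⟩
  · exact h1
  exfalso
  have hD := c.cent_ne_top hy1
  have hpow : ∀ g ∈ R, ∃ k : ℕ, g ^ (l ^ k) = 1 := by
    intro g hg
    obtain ⟨k, hk⟩ := hR.pgroup ⟨g, hg⟩
    exact ⟨k, congrArg Subtype.val hk⟩
  have hnorm : ∀ {D' : Subgroup G}, QS r x D' N → ∀ g ∈ D', g ∈ normalizer (N : Set G) := by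
    intro D' h' g hg
    rw [mem_normalizer_iff]
    intro n
    constructor
    · exact h'.norm g hg n
    · intro hn
      have h4 := h'.norm g⁻¹ (D'.inv_mem hg) _ hn
      have h5 : g⁻¹ * (g * n * g⁻¹) * g⁻¹⁻¹ = n := by group
      rwa [h5] at h4
  -- a nontrivial central element of `R` centralises `N`
  have hRn : R ≠ ⊥ := by
    intro h
    rw [h, mem_bot] at hy
    exact hy1 hy
  have : Nontrivial R := (Subgroup.nontrivial_iff_ne_bot R).2 hRn
  have : Nontrivial (center R) := hR.pgroup.center_nontrivial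
  obtain ⟨⟨z, hz⟩, hz1⟩ := exists_ne (1 : center R)
  rw [mem_center_iff] at hz
  have hz1' : (z : G) ≠ 1 := by
    intro h
    apply hz1
    exact Subtype.ext (Subtype.ext h)
  have hzy : y * (z : G) = z * y := congrArg Subtype.val (hz ⟨y, hy⟩)
  obtain ⟨k, hk⟩ := hpow z z.2
  have hzN : ∀ n ∈ N, (z : G) * n = n * z :=
    c.act_triv hx hτ h1 hD hl hlr hk (hnorm h1 z (mem_Cx.2 hzy)) (mem_Cx.1 (hR.le z.2))
  have h3 := c.cent hx h1 hD hz1' hzN
  have hRN : ∀ g ∈ R, ∀ n ∈ N, g * n = n * g := by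
    intro g hg
    obtain ⟨k, hk⟩ := hpow g hg
    exact c.act_triv hx hτ h3 (c.cent_ne_top hz1') hl hlr hk
      (hnorm h3 g (mem_Cx.2 (congrArg Subtype.val (hz ⟨g, hg⟩)).symm)) (mem_Cx.1 (hR.le hg))
  apply not_le hx h1
  refine le_trans ?_ hN
  refine le_trans ?_ (centralizer_le_normalizer _)
  intro n hn
  rw [mem_centralizer_iff]
  intro g hg
  exact hRN g hg n hn

/-- **(E)** an element `v` of `R` does not commute with `w` -/
theorem not_w (hτ : Tau r τ) {l : ℕ} (hl : l.Prime) (hlr : l ≠ r) {R : Subgroup G} (hR : SylC l x R)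
    (hN : normalizer (R : Set G) ≤ Nx x) {v w : G} (hw : (orderOf w).Coprime (r - 1))
    (hwx : ∀ x' : G, orderOf x' = r → x' * w ≠ w * x') (hvw : v * w = w * v) (hv : v ≠ 1) (g : G) :
    g * v * g⁻¹ ∉ R := by
  intro hg
  have h1 : g * v * g⁻¹ ≠ 1 := by
    intro h
    rw [mul_inv_eq_one, mul_eq_left] at h
    exact hv h
  have h2 := c.h2 hx hτ hl hlr hR hN hg h1
  have h3 : g * w * g⁻¹ ∈ centralizer ({g * v * g⁻¹} : Set G) := by
    rw [mem_Cx]
    calc g * v * g⁻¹ * (g * w * g⁻¹) = g * (v * w) * g⁻¹ := by group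
      _ = g * (w * v) * g⁻¹ := by rw [hvw]
      _ = g * w * g⁻¹ * (g * v * g⁻¹) := by group
  have h4 : (orderOf (g * w * g⁻¹)).Coprime (r - 1) := by
    have := (MulAut.conj g).orderOf_eq w
    rw [MulAut.conj_apply] at this
    rw [this]
    exact hw
  have h5 := mem_Cx.1 (mem_Cx_of_coprime c.prime hx (h2 h3) h4)
  apply hwx (g⁻¹ * x * g)
  · have := (MulAut.conj g⁻¹).orderOf_eq x
    rw [MulAut.conj_apply, inv_inv] at this
    rw [this, hx]
  · calc g⁻¹ * x * g * w = g⁻¹ * (x * (g * w * g⁻¹)) * g := by group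
      _ = g⁻¹ * (g * w * g⁻¹ * x) * g := by rw [h5]
      _ = w * (g⁻¹ * x * g) := by group

/-- case 1 with `R` a Sylow subgroup of `G` contradicts the existence of `v`, `w` -/
theorem false_of_sylow (hτ : Tau r τ) {l : ℕ} (hl : l.Prime) (hlr : l ≠ r) {R : Subgroup G} (hR : SylC l x R)
    (hN : normalizer (R : Set G) ≤ Nx x) {w : G} (hw : (orderOf w).Coprime (r - 1))
    (hwx : ∀ x' : G, orderOf x' = r → x' * w ≠ w * x') (hlw : l ∣ Nat.card (centralizer ({w} : Set G)))
    (hP : ∃ P : Sylow l G, (P : Subgroup G) = R) : False := by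
  have hlF : Fact l.Prime := ⟨hl⟩
  obtain ⟨⟨v, hvw⟩, hv⟩ := exists_prime_orderOf_dvd_card' (G := centralizer ({w} : Set G)) l hlw
  rw [Subgroup.orderOf_mk] at hv
  obtain ⟨P, hP⟩ := hP
  obtain ⟨g, hg⟩ := conj_into hl P hv
  rw [hP] at hg
  refine c.not_w hx hτ hl hlr hR hN hw hwx (mem_Cx.1 hvw).symm ?_ g hg
  rintro rfl
  rw [orderOf_one] at hv
  exact hl.one_lt.ne hv

omit c hx in
/-- a Sylow subgroup of `C(x)` of full order is a Sylow subgroup of `G` -/
theorem sylow_of_card {l : ℕ} (hl : l.Prime) {R : Subgroup G} (hR : SylC l x R) (hd : l ∣ Nat.card (Cx x))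
    (hG : ¬ l ^ 2 ∣ Nat.card G) : ∃ P : Sylow l G, (P : Subgroup G) = R := by
  have hlF : Fact l.Prime := ⟨hl⟩
  have h1 : 1 ≤ (Nat.card (Cx x)).factorization l := (hl.dvd_iff_one_le_factorization Nat.card_pos.ne').1 hd
  have h2 : (Nat.card (Cx x)).factorization l ≤ (Nat.card G).factorization l :=
    (Nat.factorization_le_iff_dvd Nat.card_pos.ne' Nat.card_pos.ne').2 (card_subgroup_dvd_card _) l
  have h3 : ¬ 2 ≤ (Nat.card G).factorization l := by
    intro h
    exact hG ((hl.pow_dvd_iff_le_factorization Nat.card_pos.ne').2 h)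
  have h4 : (Nat.card (Cx x)).factorization l = (Nat.card G).factorization l := by omega
  have h5 := hR.card
  rw [h4] at h5
  exact ⟨Sylow.ofCard R h5, rfl⟩

end Ctx

end Cfsg.Agent.H49.Fpf
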