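import Cfsg.Agent.H49.Fpf.Loc5

/-!
# Fixed point free primes: local analysis 6, primes dividing `r - 1` (helper49)
-/

set_option autoImplicit false

namespace Cfsg.Agent.H49.Fpf

open Cfsg Subgroup Cfsg.Agent.Lib Cfsg.Agent.H80.Fpf
open scoped Pointwise commutatorElement

universe u v

theorem card_mul_le_of_disjoint {G : Type u} [Group G] [Finite G] {A B S : Subgroup G} (hA : A ≤ S) (hB : B ≤ S)
    (h : A ⊓ B = ⊥) : Nat.card A * Nat.card B ≤ Nat.card S := by
  rw [← Nat.card_prod]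
  apply Nat.card_le_card_of_injective (fun p : A × B => (⟨p.1 * p.2, S.mul_mem (hA p.1.2) (hB p.2.2)⟩ : S))
  rintro ⟨a, b⟩ ⟨a', b'⟩ h1
  have h2 : (a : G) * b = a' * b' := congrArg Subtype.val h1
  have h3 : (a' : G)⁻¹ * a = b' * (b : G)⁻¹ := by
    rw [inv_mul_eq_iff_eq_mul, ← mul_assoc, ← h2, mul_inv_cancel_right]
  have h4 : (a' : G)⁻¹ * a ∈ A ⊓ B := ⟨A.mul_mem (A.inv_mem a'.2) a.2, by
    have h5 : b' * (b : G)⁻¹ ∈ B := B.mul_mem b'.2 (B.inv_mem b.2)
    rw [← h3] at h5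
    exact h5⟩
  rw [h, mem_bot] at h4
  have h5 : (a : G) = a' := (inv_mul_eq_one.1 h4).symm
  have h6 : (b : G) = b' := by
    rw [h5] at h2
    exact mul_left_cancel h2
  rw [Subtype.ext h5, Subtype.ext h6]

namespace Ctx

variable {G : Type u} [Group G] [Finite G] {r τ : ℕ} (c : Ctx r τ G) {x : G} (hx : orderOf x = r)
include c hx

/-- an element of order `r` of `N(⟨x⟩)` lies in `⟨x⟩` -/
theorem mem_zpowers_of_mem {x₁ : G} (hx₁ : orderOf x₁ = r) (h : x₁ ∈ Nx x) : x₁ ∈ zpowers x := by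
  have : Fact r.Prime := ⟨c.prime⟩
  have h1 : x₁ ∈ Cx x := by
    apply mem_Cx_of_coprime c.prime hx h
    rw [hx₁]
    have := c.prime.one_lt
    exact (Nat.coprime_self_sub_right (by omega)).2 (Nat.coprime_one_right r)
  have hr2' : ¬ r ^ 2 ∣ Nat.card (Cx x) := fun h' => c.sq (h'.trans (card_subgroup_dvd_card _))
  obtain ⟨⟨g, hg⟩, h2⟩ := exists_conj hr2' (x := (⟨x₁, h1⟩ : Cx x)) (y := (⟨x, mem_Cx.2 rfl⟩ : Cx x))
    (by rw [Subgroup.orderOf_mk, hx₁]) (by rw [Subgroup.orderOf_mk, hx])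
  obtain ⟨i, hi⟩ := h2
  have h3 : x ^ i = g * x₁ * g⁻¹ := congrArg Subtype.val hi
  have h4 : g⁻¹ * x ^ i * g = x₁ := by
    rw [h3]
    group
  have h5 : x ^ i * g = g * x ^ i := (Commute.zpow_left (mem_Cx.1 hg) i)
  rw [mul_assoc, h5, inv_mul_cancel_left] at h4
  exact ⟨i, h4⟩

/-- **`|R| ≤ l`** in case 1 for `l` dividing `r - 1` once -/
theorem small (hτ : Tau r τ) {l : ℕ} (hl : l.Prime) (hlr : l ≠ r) (hl1 : ¬ l ^ 2 ∣ r - 1) {R : Subgroup G}
    (hR : SylC l x R) (hN : normalizer (R : Set G) ≤ Nx x) {w : G} (hw : (orderOf w).Coprime (r - 1))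
    (hwx : ∀ x' : G, orderOf x' = r → x' * w ≠ w * x') (hlw : l ^ 2 ∣ Nat.card (centralizer ({w} : Set G))) :
    Nat.card R ≤ l := by
  have hlF : Fact l.Prime := ⟨hl⟩
  have hr1 : r - 1 ≠ 0 := by
    have := c.prime.one_lt
    omega
  -- the Sylow subgroup `S` of `N(⟨x⟩)`
  have hRN : R ≤ Nx x := hR.le.trans Cx_le_Nx
  have h0 : IsPGroup l (R.subgroupOf (Nx x)) := hR.pgroup.of_equiv (subgroupOfEquivOfLe hRN).symm
  obtain ⟨S₀, hS₀⟩ := h0.exists_le_sylow
  set S : Subgroup G := (S₀ : Subgroup (Nx x)).map (Nx x).subtype with hSdef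
  have hSN : S ≤ Nx x := map_subtype_le _
  have hSp : IsPGroup l S := S₀.isPGroup'.map _
  have hRS : R ≤ S := by
    intro y hy
    exact ⟨⟨y, hRN hy⟩, hS₀ hy, rfl⟩
  have hScard : Nat.card S = l ^ (Nat.card (Nx x)).factorization l := by
    rw [hSdef, Subgroup.card_map_of_injective (Nx x).subtype_injective, S₀.card_eq_multiplicity]
  have hSmax : ∀ T : Subgroup G, IsPGroup l T → S ≤ T → T ≤ Nx x → S = T := by
    intro T hT hST hTN
    apply Subgroup.eq_of_le_of_card_ge hST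
    obtain ⟨m, hm⟩ := hT.exists_card_eq
    have h3 : l ^ m ∣ Nat.card (Nx x) := by
      rw [← hm]
      exact card_dvd_of_le hTN
    rw [hm, hScard]
    exact Nat.pow_le_pow_right hl.pos ((hl.pow_dvd_iff_le_factorization Nat.card_pos.ne').1 h3)
  have hSR : Nat.card S ≤ l * Nat.card R := by
    rw [hScard, hR.card, ← pow_succ']
    apply Nat.pow_le_pow_right hl.pos
    have h1 : (Nat.card (Nx x)).factorization l ≤ (Nat.card (Cx x) * (r - 1)).factorization l :=
      (Nat.factorization_le_iff_dvd Nat.card_pos.ne' (mul_ne_zero Nat.card_pos.ne' hr1)).2 (card_Nx_dvd c.prime hx) l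
    rw [Nat.factorization_mul Nat.card_pos.ne' hr1, Finsupp.add_apply] at h1
    have h2 : ¬ 2 ≤ (r - 1).factorization l := by
      intro h
      exact hl1 ((hl.pow_dvd_iff_le_factorization hr1).2 h)
    omega
  obtain ⟨P, hP⟩ := hSp.exists_le_sylow
  by_cases hPS : S = (P : Subgroup G)
  · -- `F`
    exfalso
    obtain ⟨F, hF⟩ := Sylow.exists_subgroup_card_pow_prime l hlw
    set F' : Subgroup G := F.map (centralizer ({w} : Set G)).subtype with hF'
    have hF'c : Nat.card F' = l ^ 2 := by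
      rw [hF', Subgroup.card_map_of_injective (Subgroup.subtype_injective _), hF]
    have hF'p : IsPGroup l F' := IsPGroup.of_card hF'c
    obtain ⟨Q, hQ⟩ := hF'p.exists_le_sylow
    obtain ⟨g, hg⟩ := MulAction.exists_smul_eq G Q P
    have h2 : (P : Subgroup G) = MulAut.conj g • (Q : Subgroup G) := by
      rw [← hg]
      rfl
    set F₁ : Subgroup G := F'.map (MulAut.conj g).toMonoidHom with hF₁
    have hF₁P : F₁ ≤ (P : Subgroup G) := by
      rintro _ ⟨f, hf, rfl⟩
      rw [h2]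
      exact Subgroup.smul_mem_pointwise_smul f (MulAut.conj g) _ (hQ hf)
    have hF₁c : Nat.card F₁ = l ^ 2 := by
      rw [hF₁, Subgroup.card_map_of_injective (MulEquiv.injective _), hF'c]
    have hdis : F₁ ⊓ R = ⊥ := by
      rw [eq_bot_iff]
      intro y hy
      obtain ⟨⟨f, hf, hfy⟩, hyR⟩ := mem_inf.1 hy
      have hfy : g * f * g⁻¹ = y := hfy
      rw [mem_bot]
      by_contra hy1
      obtain ⟨f', -, hff⟩ := hf
      have hfw : f ∈ centralizer ({w} : Set G) := by
        rw [← hff]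
        exact f'.2
      refine c.not_w hx hτ hl hlr hR hN hw hwx (mem_Cx.1 hfw).symm ?_ g ?_
      · rintro rfl
        apply hy1
        rw [← hfy]
        simp
      · rw [hfy]
        exact hyR
    have h3 := card_mul_le_of_disjoint hF₁P (hRS.trans hP) hdis
    rw [hF₁c, ← hPS] at h3
    have h4 : l ^ 2 * Nat.card R ≤ l * Nat.card R := h3.trans hSR
    have h5 : l ^ 2 ≤ l := Nat.le_of_mul_le_mul_right h4 Nat.card_pos
    have := hl.one_lt
    nlinarith
  · obtain ⟨g, hgP, hgS, hgn⟩ := exists_grow P.isPGroup' hP hPS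
    have hgN : g ∉ Nx x := by
      intro h
      have h1 := hSmax ((P : Subgroup G) ⊓ Nx x) (P.isPGroup'.to_le inf_le_left) (le_inf hP hSN) inf_le_right
      apply hgS
      rw [h1]
      exact ⟨hgP, h⟩
    set R' : Subgroup G := R.map (MulAut.conj g).toMonoidHom with hR'
    have hR'S : R' ≤ S := by
      rintro _ ⟨y, hy, rfl⟩
      exact (mem_normalizer_iff.1 hgn y).1 (hRS hy)
    have hdis : R ⊓ R' = ⊥ := by
      rw [eq_bot_iff]
      intro y hy
      obtain ⟨hyR, y', hy', hyy⟩ := mem_inf.1 hy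
      have hyy : g * y' * g⁻¹ = y := hyy
      rw [mem_bot]
      by_contra hy1
      have h1 := c.h2 hx hτ hl hlr hR hN hyR hy1
      have h2 : g * x * g⁻¹ ∈ centralizer ({y} : Set G) := by
        rw [mem_Cx, ← hyy]
        have h3 := mem_Cx.1 (hR.le hy')
        calc g * y' * g⁻¹ * (g * x * g⁻¹) = g * (y' * x) * g⁻¹ := by group
          _ = g * (x * y') * g⁻¹ := by rw [h3]
          _ = g * x * g⁻¹ * (g * y' * g⁻¹) := by group
      apply hgN
      apply mem_Nx_of_conj
      apply c.mem_zpowers_of_mem hx _ (h1 h2)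
      have := (MulAut.conj g).orderOf_eq x
      rw [MulAut.conj_apply] at this
      rw [this, hx]
    have h3 := card_mul_le_of_disjoint hRS hR'S hdis
    have h4 : Nat.card R' = Nat.card R := by
      rw [hR', Subgroup.card_map_of_injective (MulEquiv.injective _)]
    rw [h4] at h3
    exact Nat.le_of_mul_le_mul_right (h3.trans hSR) Nat.card_pos

end Ctx

end Cfsg.Agent.H49.Fpf
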