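import Cfsg.Agent.H49.Fpf.Loc6

/-!
# Fixed point free primes: local analysis 7, transpositions and commuting pairs (helper49)
-/

set_option autoImplicit false

namespace Cfsg.Agent.H49.Fpf

open Cfsg Subgroup Cfsg.Agent.Lib Cfsg.Agent.H80.Fpf
open scoped Pointwise commutatorElement

universe u v

/-- an involution normalising `⟨x⟩` inverts or centralises `x` -/
theorem inv_or_comm {G : Type u} [Group G] {r : ℕ} (hr : r.Prime) {x t : G} (hx : orderOf x = r) (ht : t * t = 1)
    (htx : t * x * t⁻¹ ∈ zpowers x) : t * x * t⁻¹ = x⁻¹ ∨ x * t = t * x := by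
  obtain ⟨i, hi⟩ := htx
  have hi : x ^ i = t * x * t⁻¹ := hi
  have ht' : t⁻¹ = t := inv_eq_of_mul_eq_one_left ht
  have h1 : x ^ (i * i) = x := by
    rw [zpow_mul, hi, conj_zpow, hi, ht']
    calc t * (t * x * t) * t = (t * t) * x * (t * t) := by group
      _ = x := by rw [ht, one_mul, mul_one]
  have h2 : (r : ℤ) ∣ (i - 1) * (i + 1) := by
    rw [← hx, orderOf_dvd_iff_zpow_eq_one]
    have e : (i - 1) * (i + 1) = i * i - 1 := by ring
    rw [e, zpow_sub, h1, zpow_one, mul_inv_cancel]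
  rcases (Nat.prime_iff_prime_int.1 hr).dvd_mul.1 h2 with h3 | h3
  · right
    rw [← hx, orderOf_dvd_iff_zpow_eq_one, zpow_sub, zpow_one, mul_inv_eq_one, hi, mul_inv_eq_iff_eq_mul] at h3
    exact h3.symm
  · left
    rw [← hx, orderOf_dvd_iff_zpow_eq_one, zpow_add, zpow_one, mul_eq_one_iff_eq_inv] at h3
    rw [← hi, h3]

namespace Ctx

variable {G : Type u} [Group G] [Finite G] {r τ : ℕ} (c : Ctx r τ G) {x : G} (hx : orderOf x = r)
include c hx

/-- case 1 is impossible for `l` if an element of order `l` commutes with a transposition -/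
theorem false_of_six (hτ : Tau r τ) {l : ℕ} (hl : l.Prime) (hlr : l ≠ r) (hl1 : l.Coprime (r - 1)) (hr2 : r ≠ 2)
    {R : Subgroup G} (hR : SylC l x R) (hN : normalizer (R : Set G) ≤ Nx x) {t v : G} (ht : orderOf t = 2)
    (hv : orderOf v = l) (htv : v * t = t * v) (hsix : ∀ h : G, orderOf (t * (h * t * h⁻¹)) ≠ r) : False := by
  obtain ⟨P, hP⟩ := c.full hx hl hl1 hR.pgroup hR.le hR.card hN
  obtain ⟨g, hg⟩ := conj_into hl P hv
  rw [hP] at hg
  have hv1 : g * v * g⁻¹ ≠ 1 := by
    intro h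
    rw [mul_inv_eq_one, mul_eq_left] at h
    rw [h, orderOf_one] at hv
    exact hl.one_lt.ne hv
  have h2 := c.h2 hx hτ hl hlr hR hN hg hv1
  set t' := g * t * g⁻¹ with ht'def
  have ht'o : orderOf t' = 2 := by
    have := (MulAut.conj g).orderOf_eq t
    rw [MulAut.conj_apply] at this
    rw [ht'def, this, ht]
  have ht'2 : t' * t' = 1 := by
    have := pow_orderOf_eq_one t'
    rwa [ht'o, pow_two] at this
  have h3 : t' ∈ centralizer ({g * v * g⁻¹} : Set G) := by
    rw [mem_Cx]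
    calc g * v * g⁻¹ * (g * t * g⁻¹) = g * (v * t) * g⁻¹ := by group
      _ = g * (t * v) * g⁻¹ := by rw [htv]
      _ = g * t * g⁻¹ * (g * v * g⁻¹) := by group
  have h4 : t' * x * t'⁻¹ ∈ zpowers x := (mem_normalizer_iff.1 (h2 h3) x).1 (mem_zpowers x)
  rcases inv_or_comm c.prime hx ht'2 h4 with h5 | h5
  · apply hsix (g⁻¹ * x * g)
    have e1 : t' * (x * t' * x⁻¹) = x⁻¹ * x⁻¹ := by
      have e2 : t'⁻¹ = t' := inv_eq_of_mul_eq_one_left ht'2
      rw [e2] at h5
      calc t' * (x * t' * x⁻¹) = t' * x * t' * x⁻¹ := by group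
        _ = x⁻¹ * x⁻¹ := by rw [h5]
    have e2 : g * (t * (g⁻¹ * x * g * t * (g⁻¹ * x * g)⁻¹)) * g⁻¹ = x⁻¹ * x⁻¹ := by
      rw [← e1, ht'def]
      group
    have e3 := (MulAut.conj g).orderOf_eq (t * (g⁻¹ * x * g * t * (g⁻¹ * x * g)⁻¹))
    rw [MulAut.conj_apply, e2] at e3
    rw [← e3, ← pow_two, Nat.Coprime.orderOf_pow, orderOf_inv, hx]
    rw [orderOf_inv, hx]
    exact (Nat.coprime_primes c.prime Nat.prime_two).2 hr2
  · exact c.odd x t' hx ht'o h5

end Ctx

theorem index_dvd_card {C : Type u} [Group C] [Finite C] {K M : Subgroup C} (hK : K.Normal) (h : M ⊔ K = ⊤) :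
    K.index ∣ Nat.card M := by
  have h3 : K.relIndex (M ⊔ K) = K.relIndex M := relIndex_sup_right M K
  rw [h, relIndex_top_right] at h3
  rw [h3]
  exact relIndex_dvd_card _ _

/-- **a commuting pair** of elements of prime orders `l`, `m` -/
theorem exists_comm_pair {C : Type u} [Group C] [Finite C] {l m : ℕ} (hl : l.Prime) (hm : m.Prime) (hlm : l ≠ m)
    (hlC : l ∣ Nat.card C) (hl2 : ¬ l ^ 2 ∣ Nat.card C) (hmC : m ∣ Nat.card C) (hm2 : ¬ m ^ 2 ∣ Nat.card C)
    (hl1 : (Nat.card C).Coprime (l - 1)) (hm1 : l.Coprime (m - 1)) :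
    ∃ y g : C, orderOf y = l ∧ orderOf g = m ∧ y * g = g * y := by
  have hlF : Fact l.Prime := ⟨hl⟩
  have hmF : Fact m.Prime := ⟨hm⟩
  obtain ⟨P⟩ : Nonempty (Sylow l C) := inferInstance
  have hf1 : (Nat.card C).factorization l = 1 := by
    have h1 : 1 ≤ (Nat.card C).factorization l := (hl.dvd_iff_one_le_factorization Nat.card_pos.ne').1 hlC
    have h2 : ¬ 2 ≤ (Nat.card C).factorization l := fun h => hl2 ((hl.pow_dvd_iff_le_factorization Nat.card_pos.ne').2 h)
    omega
  have hPc : Nat.card P = l := by rw [P.card_eq_multiplicity, hf1, pow_one]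
  obtain ⟨⟨y₀, hy₀P⟩, hy₀⟩ := exists_prime_orderOf_dvd_card' (G := P) l (by rw [hPc])
  rw [Subgroup.orderOf_mk] at hy₀
  have hPz : (P : Subgroup C) = zpowers y₀ := by
    symm
    apply Subgroup.eq_of_le_of_card_ge (zpowers_le.2 hy₀P)
    rw [Nat.card_zpowers, hy₀, hPc]
  have hPn : normalizer ((P : Subgroup C) : Set C) ≤ centralizer ((P : Subgroup C) : Set C) := by
    intro g hg
    rw [hPz] at hg
    have h1 : (orderOf g).Coprime (l - 1) := Nat.Coprime.coprime_dvd_left (orderOf_dvd_natCard g) hl1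
    have h2 := mem_Cx.1 (mem_Cx_of_coprime hl hy₀ hg h1)
    rw [mem_centralizer_iff]
    intro a ha
    have ha : a ∈ (P : Subgroup C) := ha
    rw [hPz] at ha
    obtain ⟨i, rfl⟩ := ha
    exact Commute.zpow_left h2 i
  have hcomp := MonoidHom.ker_transferSylow_isComplement' P hPn
  have hKn : (MonoidHom.transferSylow P hPn).ker.Normal := inferInstance
  generalize (MonoidHom.transferSylow P hPn).ker = K at hcomp hKn
  have hKc : Nat.card K * l = Nat.card C := by
    rw [← hPc]
    exact hcomp.card_mul_card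
  have hmK : m ∣ Nat.card K := by
    rw [← hKc] at hmC
    rcases hm.dvd_mul.1 hmC with h | h
    · exact h
    · exact absurd ((Nat.prime_dvd_prime_iff_eq hm hl).1 h).symm hlm
  obtain ⟨S⟩ : Nonempty (Sylow m K) := inferInstance
  have hS := Sylow.normalizer_sup_eq_top S
  set M : Subgroup C := normalizer (((S : Subgroup K).map K.subtype : Subgroup C) : Set C) with hM
  have hlM : l ∣ Nat.card M := by
    have h2 : K.index = l := by
      have h3 := K.card_mul_index
      rw [← hKc] at h3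
      exact Nat.eq_of_mul_eq_mul_left Nat.card_pos h3
    have h4 := index_dvd_card hKn hS
    rwa [h2] at h4
  obtain ⟨⟨y, hyM⟩, hy⟩ := exists_prime_orderOf_dvd_card' (G := M) l hlM
  rw [Subgroup.orderOf_mk] at hy
  have hSc : Nat.card S = m := by
    rw [S.card_eq_multiplicity]
    have h1 : 1 ≤ (Nat.card K).factorization m := (hm.dvd_iff_one_le_factorization Nat.card_pos.ne').1 hmK
    have h2 : ¬ 2 ≤ (Nat.card K).factorization m := fun h =>
      hm2 (((hm.pow_dvd_iff_le_factorization Nat.card_pos.ne').2 h).trans (card_subgroup_dvd_card _))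
    have h3 : (Nat.card K).factorization m = 1 := by omega
    rw [h3, pow_one]
  obtain ⟨⟨g, hgS⟩, hg⟩ := exists_prime_orderOf_dvd_card' (G := S) m (by rw [hSc])
  rw [Subgroup.orderOf_mk] at hg
  have hgo : orderOf (g : C) = m := by rw [Subgroup.orderOf_coe, hg]
  have hSz : (S : Subgroup K).map K.subtype = zpowers (g : C) := by
    symm
    apply Subgroup.eq_of_le_of_card_ge
    · rw [zpowers_le]
      exact ⟨g, hgS, rfl⟩
    · rw [Nat.card_zpowers, hgo, Subgroup.card_map_of_injective K.subtype_injective, hSc]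
  rw [hM, hSz] at hyM
  refine ⟨y, g, hy, hgo, (mem_Cx.1 (mem_Cx_of_coprime hm hgo hyM ?_)).symm⟩
  rw [hy]
  exact hm1

end Cfsg.Agent.H49.Fpf
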