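import Cfsg.Agent.H49.Fpf.MonB
import Cfsg.Agent.BpSpor.MBigEleven
import Cfsg.Agent.MonsterX.InstanceFinal
import Cfsg.Agent.H935.ThreeC.Main
import Cfsg.Agent.H849.FiModel
import Cfsg.Agent.R08.FiTwentyFour

/-!
# The Monster row of S4228: involutions of the model (helper49)
-/

set_option autoImplicit false
set_option maxRecDepth 100000

namespace Cfsg.Agent.H49.Fpf.Mon

open Cfsg Subgroup Cfsg.Agent.H80.Fpf Cfsg.Agent.H49.Fpf
open Cfsg.Agent.BpSpor.MBigModel
open Cfsg.Agent.MonsterX Cfsg.Agent.MonsterX.InstData Cfsg.Agent.MonsterU Cfsg.Agent.MonsterP Cfsg.Agent.MonsterN Cfsg.Agent.LThreeMB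
open Cfsg.Agent.MonsterX.MainBasic Cfsg.Agent.MonsterX.MainSimple Cfsg.Agent.MonsterX.Model
open Cfsg.Agent.MonsterX.MainPack Cfsg.Agent.MonsterU.Lam2 Cfsg.Agent.MonsterU.TwoCls

/-- the six-transposition property -/
theorem six {t : MG} (ht : LThreeB.Row.TA t) (h : MG) : orderOf (t * (h * t * h⁻¹)) ≤ 6 := by
  have h1 : IsConj (tG LitFin.all.hG LitFin.all.hR) t := ht
  obtain ⟨c, hc⟩ := isConj_iff.1 h1
  have h2 := MainPack.six LitFin.all.hG LitFin.all.hR LitFin.all.hL LitFin.all.hO LitFin.all.hT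
    InstanceFinal.mExtra.order_le (c⁻¹ * h * c)
  have h3 := (MulAut.conj c).orderOf_eq (tG LitFin.all.hG LitFin.all.hR *
    (c⁻¹ * h * c * tG LitFin.all.hG LitFin.all.hR * (c⁻¹ * h * c)⁻¹))
  rw [← h3, MulAut.conj_apply] at h2
  refine le_trans (le_of_eq ?_) h2
  congr 1
  rw [← hc]
  group

/-- the centraliser of an involution which is not a transposition -/
theorem inv_two {t : MG} (ht : orderOf t = 2) (h : ¬ LThreeB.Row.TA t) : QHyp 25 t ∧
    Nat.card (centralizer ({t} : Set MG)) ∣ mCent := by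
  rcases cls ht with ⟨g, hg⟩ | h1
  · refine ⟨⟨KDone.K.ι.range.map (MulAut.conj g).toMonoidHom, ?_, ?_, ?_⟩, ?_⟩
    · rw [Subgroup.card_map_of_injective (MulEquiv.injective _)]
      exact chart.card_Q
    · exact ⟨zz, chart.large.z_mem, hg⟩
    · rintro a ha _ ⟨y, hy, rfl⟩
      have h2 : g⁻¹ * a * g * zz = zz * (g⁻¹ * a * g) := by
        rw [← hg] at ha
        calc g⁻¹ * a * g * zz = g⁻¹ * (a * (g * zz * g⁻¹)) * g := by group
          _ = g⁻¹ * (g * zz * g⁻¹ * a) * g := by rw [ha]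
          _ = zz * (g⁻¹ * a * g) := by group
      refine ⟨_, chart.large.conj_mem _ h2 y hy, ?_⟩
      change g * (g⁻¹ * a * g * y * (g⁻¹ * a * g)⁻¹) * g⁻¹ = a * (g * y * g⁻¹) * a⁻¹
      group
    · rw [BpSpor.card_cent_of_conj hg, card_cent_z]
      norm_num
  · exact absurd h1 h

/-- an element commuting with an element of order `m` -/
theorem dvd_cent {G : Type*} [Group G] {m : ℕ} {x w : G} (hx : orderOf x = m) (h : x * w = w * x) :
    m ∣ Nat.card (centralizer ({w} : Set G)) := by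
  have h1 : x ∈ centralizer ({w} : Set G) := mem_Cx.2 h.symm
  have h2 := orderOf_dvd_natCard (⟨x, h1⟩ : centralizer ({w} : Set G))
  rwa [Subgroup.orderOf_mk, hx] at h2

/-- no involution commutes with an element of order 59 or 71 -/
theorem odd {r : ℕ} (hr : r = 59 ∨ r = 71) {x g : MG} (hx : orderOf x = r) (hg : orderOf g = 2) : x * g ≠ g * x := by
  intro h
  have h1 := dvd_cent hx h
  rcases cls hg with ⟨k, hk⟩ | h2
  · rw [BpSpor.card_cent_of_conj hk, card_cent_z] at h1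
    rcases hr with rfl | rfl <;> revert h1 <;> decide +kernel
  · rw [card_cent_t h2] at h1
    rcases hr with rfl | rfl <;> revert h1 <;> decide +kernel

/-- an element of order 47 commuting with a transposition -/
theorem tf : ∃ t v : MG, orderOf t = 2 ∧ orderOf v = 47 ∧ v * t = t * v ∧ ∀ h : MG, orderOf (t * (h * t * h⁻¹)) ≤ 6 := by
  have hfin := finite
  have h47 : Fact (Nat.Prime 47) := ⟨by norm_num⟩
  have ht : LThreeB.Row.TA (tG LitFin.all.hG LitFin.all.hR) := IsConj.refl _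
  have hc := card_cent_t ht
  obtain ⟨⟨v, hvt⟩, hv⟩ := exists_prime_orderOf_dvd_card'
    (G := centralizer ({tG LitFin.all.hG LitFin.all.hR} : Set MG)) 47 (by rw [hc]; decide +kernel)
  rw [Subgroup.orderOf_mk] at hv
  have : Fact (Nat.Prime 2) := ⟨Nat.prime_two⟩
  have h1 : orderOf (tG LitFin.all.hG LitFin.all.hR) = 2 :=
    orderOf_eq_prime (by rw [pow_two]; exact Subtype.ext LitFin.all.hR.t₀_sq)
      fun h => LitFin.all.hR.t₀_ne (congrArg Subtype.val h)
  exact ⟨tG LitFin.all.hG LitFin.all.hR, v, h1, hv, (mem_Cx.1 hvt).symm, fun h => six ht h⟩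

/-- the class `3C` -/
theorem wC {r : ℕ} (hr : r = 59 ∨ r = 71) : ∃ w : MG, orderOf w = 3 ∧
    5 ^ 2 * 7 ^ 2 * 13 * 19 * 31 ∣ Nat.card (centralizer ({w} : Set MG)) ∧
    ∀ x : MG, orderOf x = r → x * w ≠ w * x := by
  have hex : ∃ y : MG, orderOf y = 3 ∧ Nat.card ↥(centralizer ({y} : Set MG)) = 3 * 90745943887872000 := by
    obtain ⟨y, hy, -, -, -, hc⟩ := H935.ThreeC.exists_th InstanceFinal.pack Instance.mTrans
    refine ⟨y, hy, ?_⟩
    rw [← H935.ThreeC.th_isTh.2]
    exact hc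
  obtain ⟨y, hy, hc'⟩ := hex
  refine ⟨y, hy, ?_, fun x hx h => ?_⟩
  · rw [hc']
    decide +kernel
  · have h1 := dvd_cent hx h
    rw [hc'] at h1
    rcases hr with rfl | rfl <;> revert h1 <;> decide +kernel

/-- the class `3A` -/
theorem wA {r : ℕ} (hr : r = 59 ∨ r = 71) : ∃ w : MG, orderOf w = 3 ∧
    11 * 17 * 23 * 29 ∣ Nat.card (centralizer ({w} : Set MG)) ∧
    ∀ x : MG, orderOf x = r → x * w ≠ w * x := by
  obtain ⟨x, t, π, D⟩ := Cfsg.Agent.H849.FiModel.exists_data
  have hfin := finite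
  have hc' : Nat.card ↥(centralizer ({x} : Set MG)) = 3 * 1255205709190661721292800 := by
    have h1 := π.ker.card_eq_card_quotient_mul_card_subgroup
    rw [Nat.card_congr (QuotientGroup.quotientKerEquivOfSurjective π D.surj).toEquiv,
      Cfsg.Agent.R08.FiTwentyFour.card_commutator] at h1
    have h2 : Nat.card π.ker = 3 := by
      rw [← D.ord, ← Nat.card_zpowers]
      apply Nat.card_congr
      refine ⟨fun k => ⟨(k : centralizer ({x} : Set MG)), (D.ker k).1 (MonoidHom.mem_ker.1 k.2)⟩,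
        fun k => ⟨⟨k, ?_⟩, ?_⟩, ?_, ?_⟩
      · obtain ⟨i, hi⟩ := k.2
        have hi : x ^ i = (k : MG) := hi
        rw [mem_Cx, ← hi]
        exact (Commute.refl x).zpow_right i
      · exact MonoidHom.mem_ker.2 ((D.ker _).2 k.2)
      · intro k
        rfl
      · intro k
        rfl
    rw [h1, h2, mul_comm]
  refine ⟨x, D.ord, ?_, fun y hy h => ?_⟩
  · rw [hc']
    decide +kernel
  · have h1 := dvd_cent hy h
    rw [hc'] at h1
    rcases hr with rfl | rfl <;> revert h1 <;> decide +kernel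

end Cfsg.Agent.H49.Fpf.Mon
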