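import Cfsg.Agent.H49.Fpf.MonC
import Cfsg.Agent.OrdDiv.Table

/-!
# The Monster row of S4228: the simple quotients of the normal closures (helper49)
-/

set_option autoImplicit false
set_option maxRecDepth 100000

namespace Cfsg.Agent.H49.Fpf.Mon

open Cfsg Subgroup Cfsg.Agent.H80.Fpf Cfsg.Agent.H49.Fpf Cfsg.Agent.OrdDiv
open Matrix
open Cfsg.Agent.BpSpor.MBigModel
open Cfsg.Agent.MonsterX Cfsg.Agent.MonsterX.InstData Cfsg.Agent.MonsterU Cfsg.Agent.MonsterP Cfsg.Agent.MonsterN
open Cfsg.Agent.LThreeMB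

section PSL

variable {F : Type} [Field F]

/-- the involution -/
def sM : SpecialLinearGroup (Fin 2) F := ⟨!![0, 1; -1, 0], by simp⟩

/-- the diagonal element -/
def dM (a : F) (ha : a ≠ 0) : SpecialLinearGroup (Fin 2) F := ⟨!![a, 0; 0, a⁻¹], by simp [ha]⟩

theorem mul_val (a b : SpecialLinearGroup (Fin 2) F) : (a * b).1 = a.1 * b.1 := rfl

theorem inv_val (a : SpecialLinearGroup (Fin 2) F) : (a⁻¹).1 = a.1.adjugate := rfl

theorem pow_val (a : SpecialLinearGroup (Fin 2) F) (n : ℕ) : (a ^ n).1 = a.1 ^ n :=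
  Matrix.SpecialLinearGroup.coe_pow a n

theorem sM_val : (sM : SpecialLinearGroup (Fin 2) F).1 = !![0, 1; -1, 0] := rfl

theorem dM_val (a : F) (ha : a ≠ 0) : (dM a ha).1 = !![a, 0; 0, a⁻¹] := rfl

theorem sM_sq : (sM * sM : SpecialLinearGroup (Fin 2) F).1 = !![-1, 0; 0, -1] := by
  rw [mul_val, sM_val]
  simp

theorem prod_val {a : F} (ha : a ≠ 0) : (sM * (dM a ha * sM * (dM a ha)⁻¹) : SpecialLinearGroup (Fin 2) F).1 =
    diagonal ![-(a⁻¹) ^ 2, -a ^ 2] := by
  rw [mul_val, mul_val, mul_val, inv_val, sM_val, dM_val, Matrix.adjugate_fin_two_of]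
  ext i j
  fin_cases i <;> fin_cases j <;> simp [Matrix.mul_apply, Fin.sum_univ_two, pow_two]

/-- an element commuting with the transvection -/
theorem scal {g : SpecialLinearGroup (Fin 2) F} (hg : g ∈ center (SpecialLinearGroup (Fin 2) F)) :
    g.1 0 0 = g.1 1 1 ∧ g.1 1 0 = 0 := by
  let u : SpecialLinearGroup (Fin 2) F := ⟨!![1, 1; 0, 1], by simp⟩
  have h := mem_center_iff.1 hg u
  have h0 : u.1 * g.1 = g.1 * u.1 := congrArg Subtype.val h
  have hu : u.1 = !![1, 1; 0, 1] := rfl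
  rw [hu] at h0
  have h1 := congrFun (congrFun h0 0) 1
  have h2 := congrFun (congrFun h0 0) 0
  simp [Matrix.mul_apply, Fin.sum_univ_two] at h1 h2
  exact ⟨by linear_combination -h1, h2⟩

theorem psl_inv (hF : ∀ n : ℕ, 1 ≤ n → n ≤ 6 → (2 : F) ^ (4 * n) ≠ 1) (h2 : (2 : F) ≠ 0) :
    ∃ s d : ProjectiveSpecialLinearGroup (Fin 2) F, s * s = 1 ∧ s ≠ 1 ∧
      ∀ n : ℕ, 1 ≤ n → n ≤ 6 → (s * (d * s * d⁻¹)) ^ n ≠ 1 := by
  let pr : SpecialLinearGroup (Fin 2) F →* ProjectiveSpecialLinearGroup (Fin 2) F := QuotientGroup.mk' _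
  have hpr : ∀ g : SpecialLinearGroup (Fin 2) F, pr g = 1 ↔ g ∈ center (SpecialLinearGroup (Fin 2) F) := fun g =>
    QuotientGroup.eq_one_iff g
  refine ⟨pr sM, pr (dM 2 h2), ?_, ?_, ?_⟩
  · rw [← map_mul, hpr]
    rw [mem_center_iff]
    intro g
    apply Subtype.ext
    rw [mul_val g (sM * sM), mul_val (sM * sM) g, sM_sq]
    ext i j
    fin_cases i <;> fin_cases j <;> simp [Matrix.mul_apply, Fin.sum_univ_two]
  · rw [Ne, hpr]
    intro h
    have := (scal h).2
    simp [sM] at this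
  · intro n hn1 hn6 h
    rw [← map_inv, ← map_mul, ← map_mul, ← map_mul, ← map_pow, hpr] at h
    have h3 := (scal h).1
    have h4 : ((sM * (dM 2 h2 * sM * (dM 2 h2)⁻¹)) ^ n : SpecialLinearGroup (Fin 2) F).1 =
        diagonal (![-(2⁻¹ : F) ^ 2, -2 ^ 2] ^ n) := by
      rw [pow_val, prod_val h2, diagonal_pow]
    rw [h4] at h3
    simp only [diagonal_apply_eq, Pi.pow_apply, Matrix.cons_val_zero, Matrix.cons_val_one,
      Matrix.cons_val_fin_one] at h3
    apply hF n hn1 hn6
    have h5 : (-1 : F) ^ n * (-1) ^ n = 1 := by rw [← mul_pow]; norm_num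
    have h6 : ((2 : F)⁻¹) ^ (2 * n) * 2 ^ (2 * n) = 1 := by rw [← mul_pow, inv_mul_cancel₀ h2, one_pow]
    have h7 : ((-(2⁻¹ : F) ^ 2) ^ n) = (-1) ^ n * (2⁻¹) ^ (2 * n) := by rw [neg_pow, pow_mul]
    have h8 : ((-(2 : F) ^ 2) ^ n) = (-1) ^ n * 2 ^ (2 * n) := by rw [neg_pow, pow_mul]
    rw [h7, h8] at h3
    have h9 : ((2 : F)⁻¹) ^ (2 * n) = 2 ^ (2 * n) := by
      have h10 : (-1 : F) ^ n ≠ 0 := pow_ne_zero _ (by norm_num)
      exact mul_left_cancel₀ h10 h3
    rw [h9, ← pow_add] at h6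
    rw [show 4 * n = 2 * n + 2 * n by ring]
    exact h6

end PSL

/-- lifting the involution -/
theorem lift_inv {N P : Type*} [Group N] [Finite N] [Group P] {π : N →* P} (hπ : Function.Surjective π)
    (hker : π.ker = center N) (hodd : ¬ 2 ∣ Nat.card (center N)) {s d : P} (hs : s * s = 1) (hs1 : s ≠ 1)
    (hsd : ∀ n : ℕ, 1 ≤ n → n ≤ 6 → (s * (d * s * d⁻¹)) ^ n ≠ 1) :
    ∃ t h : N, orderOf t = 2 ∧ 6 < orderOf (t * (h * t * h⁻¹)) := by
  obtain ⟨t₀, ht₀⟩ := hπ s
  obtain ⟨h, hh⟩ := hπ d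
  set z := Nat.card (center N) with hz
  have hzo : Odd z := by
    rw [← Nat.not_even_iff_odd, even_iff_two_dvd]
    exact hodd
  have h1 : π (t₀ ^ z) = s := by
    rw [map_pow, ht₀]
    obtain ⟨k, hk⟩ := hzo
    rw [hk, pow_succ, pow_mul, pow_two, hs, one_pow, one_mul]
  have h2 : t₀ ^ z * t₀ ^ z = 1 := by
    have h3 : t₀ * t₀ ∈ center N := by
      rw [← hker, MonoidHom.mem_ker, map_mul, ht₀, hs]
    have h4 : (t₀ * t₀) ^ z = 1 := by
      have := pow_card_eq_one' (x := (⟨t₀ * t₀, h3⟩ : center N))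
      exact congrArg Subtype.val this
    rw [← pow_add, ← two_mul, pow_mul, pow_two, h4]
  have : Fact (Nat.Prime 2) := ⟨Nat.prime_two⟩
  refine ⟨t₀ ^ z, h, orderOf_eq_prime (by rw [pow_two, h2]) ?_, ?_⟩
  · intro h5
    rw [h5, map_one] at h1
    exact hs1 h1.symm
  · by_contra h5
    push Not at h5
    apply hsd _ (orderOf_pos _) h5
    have h6 := pow_orderOf_eq_one (t₀ ^ z * (h * t₀ ^ z * h⁻¹))
    have h7 := congrArg π h6
    rwa [map_pow, map_mul, map_mul, map_mul, map_inv, h1, hh, map_one] at h7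

/-- the primes of `|M|` -/
def mPr : List (ℕ × ℕ) := [(2, 46), (3, 20), (5, 9), (7, 6), (11, 2), (13, 3), (17, 1), (19, 1), (23, 1), (29, 1),
  (31, 1), (41, 1), (47, 1), (59, 1), (71, 1)]

theorem valid_mPr : valid mPr mCard = true := by decide +kernel

theorem cands71 : ((cands mPr mCard).filter (fun g => ordN g % 71 == 0 && ordN g != mCard)) = [.psl 2 71] := by
  decide +kernel

theorem cands59 : ((cands mPr mCard).filter (fun g => ordN g % 59 == 0 && ordN g != mCard)) = [.psl 2 59] := by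
  decide +kernel

/-- the order of `PSL_2(r)` -/
abbrev mTau (r : ℕ) : ℕ := ordN (.psl 2 r)

theorem mTau59 : mTau 59 = 102660 := by decide +kernel

theorem mTau71 : mTau 71 = 178920 := by decide +kernel

theorem exists_psl (hk : ∀ (T : Type) [Group T] [Finite T] [IsSimpleGroup T], IsKnownSimple' T) {T : Type} [Group T]
    [Finite T] [IsSimpleGroup T] (hna : ¬ ∀ a b : T, a * b = b * a) (hT : Nat.card T ∣ mCard)
    (hne : Nat.card T ≠ mCard) {r : ℕ} (hr : r = 59 ∨ r = 71) (hrT : r ∣ Nat.card T) :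
    Nat.card T = mTau r ∧ ∃ (F : Type) (_ : Field F) (_ : Fintype F), Fintype.card F = r ∧
      Nonempty (T ≃* ProjectiveSpecialLinearGroup (Fin 2) F) := by
  obtain ⟨g, hg, hreal, hcard⟩ := exists_good table (hk T) hna valid_mPr hT
  have h1 : g ∈ (cands mPr mCard).filter (fun g => ordN g % r == 0 && ordN g != mCard) := by
    rw [List.mem_filter]
    refine ⟨hg, ?_⟩
    rw [← hcard]
    simp only [Bool.and_eq_true, beq_iff_eq, bne_iff_ne]
    exact ⟨Nat.mod_eq_zero_of_dvd hrT, hne⟩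
  have h2 : g = .psl 2 r := by
    rcases hr with rfl | rfl
    · rw [cands59] at h1
      exact List.mem_singleton.1 h1
    · rw [cands71] at h1
      exact List.mem_singleton.1 h1
  subst h2
  exact ⟨hcard, hreal⟩

theorem pow_ne {F : Type} [Field F] [Fintype F] {r : ℕ} (hr : r = 59 ∨ r = 71) (hF : Fintype.card F = r) :
    (∀ n : ℕ, 1 ≤ n → n ≤ 6 → (2 : F) ^ (4 * n) ≠ 1) ∧ (2 : F) ≠ 0 := by
  have hrp : r.Prime := by rcases hr with rfl | rfl <;> norm_num
  have : Fact r.Prime := ⟨hrp⟩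
  have hch : CharP F r := by
    obtain ⟨p, hp⟩ := CharP.exists F
    have hpp : p.Prime := CharP.char_is_prime F p
    obtain ⟨n, -, hn⟩ := FiniteField.card F p
    have h1 : p ∣ r := by
      rw [← hF, hn]
      exact dvd_pow_self p n.ne_zero
    have h2 := (Nat.prime_dvd_prime_iff_eq hpp hrp).1 h1
    rwa [h2] at hp
  constructor
  · intro n h1 h6 h
    have h2 : ((2 ^ (4 * n) - 1 : ℕ) : F) = 0 := by
      rw [Nat.cast_sub (Nat.one_le_two_pow), Nat.cast_pow, Nat.cast_one]
      push_cast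
      rw [h, sub_self]
    rw [CharP.cast_eq_zero_iff F r] at h2
    have h3 : n = 1 ∨ n = 2 ∨ n = 3 ∨ n = 4 ∨ n = 5 ∨ n = 6 := by omega
    rcases hr with rfl | rfl <;> rcases h3 with rfl | rfl | rfl | rfl | rfl | rfl <;> revert h2 <;> decide +kernel
  · intro h
    have h2 : ((2 : ℕ) : F) = 0 := by exact_mod_cast h
    rw [CharP.cast_eq_zero_iff F r] at h2
    rcases hr with rfl | rfl <;> revert h2 <;> decide

section

variable (hk : ∀ (T : Type) [Group T] [Finite T] [IsSimpleGroup T], IsKnownSimple' T)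
include hk

/-- the quotient of a quasisimple normal closure -/
theorem qs_psl {r : ℕ} (hr : r = 59 ∨ r = 71) {x : MG} {D N : Subgroup MG} (hD : D ≠ ⊤) (h : QS r x D N) :
    Nat.card (↥N ⧸ center ↥N) = mTau r ∧ ∃ (F : Type) (_ : Field F) (_ : Fintype F), Fintype.card F = r ∧
      Nonempty ((↥N ⧸ center ↥N) ≃* ProjectiveSpecialLinearGroup (Fin 2) F) := by
  have hfin := finite
  have hs := h.qt.simple
  have h1 : Nat.card (↥N ⧸ center ↥N) ∣ Nat.card N := card_quotient_dvd_card _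
  refine exists_psl hk ?_ ?_ ?_ hr h.qt.dvd
  · intro h2
    exact h.qt.nab ⟨⟨h2⟩⟩
  · have h2 := h1.trans (card_subgroup_dvd_card N)
    rwa [card_M] at h2
  · intro h2
    apply hD
    rw [h2] at h1
    have h3 := h1.trans (card_subgroup_dvd_card N)
    have h4 : Nat.card N = Nat.card MG := Nat.dvd_antisymm (card_subgroup_dvd_card N) (by rw [card_M]; exact h1)
    have h5 := Subgroup.eq_top_of_card_eq N h4
    rw [eq_top_iff, ← h5]
    exact h.le

/-- **the context** -/
theorem mctx {r : ℕ} (hr : r = 59 ∨ r = 71) (hM : May r MG) : MCtx r (mTau r) MG := by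
  have hfin := finite
  have hs := simple
  have hrp : r.Prime := by rcases hr with rfl | rfl <;> norm_num
  have hr2 : r ≠ 2 := by rcases hr with rfl | rfl <;> norm_num
  have hcen : Cen r MG := by
    rcases hr with rfl | rfl
    · exact cen_of_may hrp hr2 hM (q := 29) (by norm_num) (by norm_num) (by norm_num)
    · exact cen_of_may hrp hr2 hM (q := 5) (by norm_num) (by norm_num) (by norm_num)
  have hctx : Ctx r (mTau r) MG :=
    { prime := hrp
      sq := by
        rw [card_M]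
        rcases hr with rfl | rfl <;> decide +kernel
      cen := hcen
      simple := hs
      centre := center_model
      odd := fun x g hx hg => odd hr hx hg
      typ := fun x D N hx hD h => (qs_psl hk hr hD h).1 }
  refine { hctx with
    hr := hr
    tau := ?_
    t32 := ?_
    card := card_M
    inv := ?_
    wC := wC hr
    wA := wA hr
    tf := tf }
  · intro n hn hn1
    have key : ∀ L : List (ℕ × ℕ), (∀ q ∈ L, q.1.Prime) → mTau r ∣ (L.map fun q => q.1 ^ q.2).prod →
        ((divs L).all fun n => n % r != 1 || n == 1 || n == r + 1) = true → n = 1 ∨ n = r + 1 := by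
      intro L hL hd hc
      have h1 := mem_divs L hL n (hn.trans hd)
      have h2 := List.all_eq_true.1 hc n h1
      simp only [Bool.or_eq_true, bne_iff_ne, beq_iff_eq] at h2
      rcases h2 with (h2 | h2) | h2
      · exact absurd hn1 h2
      · exact Or.inl h2
      · exact Or.inr h2
    rcases hr with rfl | rfl
    · refine key [(2, 2), (3, 1), (5, 1), (29, 1), (59, 1)] ?_ (by rw [mTau59]; decide +kernel) (by decide +kernel)
      intro q hq
      simp only [List.mem_cons, List.not_mem_nil, or_false] at hq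
      rcases hq with rfl | rfl | rfl | rfl | rfl <;> norm_num
    · refine key [(2, 3), (3, 2), (5, 1), (7, 1), (71, 1)] ?_ (by rw [mTau71]; decide +kernel) (by decide +kernel)
      intro q hq
      simp only [List.mem_cons, List.not_mem_nil, or_false] at hq
      rcases hq with rfl | rfl | rfl | rfl | rfl <;> norm_num
  · rcases hr with rfl | rfl
    · rw [mTau59]
      decide +kernel
    · rw [mTau71]
      decide +kernel
  · intro x D N hx hD h
    obtain ⟨-, F, _, _, hF, ⟨e⟩⟩ := qs_psl hk hr hD h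
    obtain ⟨h1, h2⟩ := pow_ne hr hF
    obtain ⟨s, d, hs, hs1, hsd⟩ := psl_inv h1 h2
    let π : ↥N →* ProjectiveSpecialLinearGroup (Fin 2) F := e.toMonoidHom.comp (QuotientGroup.mk' (center ↥N))
    have hker : π.ker = center ↥N := by
      ext n
      rw [MonoidHom.mem_ker]
      change e (QuotientGroup.mk' (center ↥N) n) = 1 ↔ _
      rw [map_eq_one_iff e e.injective]
      exact QuotientGroup.eq_one_iff n
    obtain ⟨t, k, ht, hk6⟩ := lift_inv (π := π) (e.surjective.comp (QuotientGroup.mk'_surjective _)) hker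
      (fun h' => hctx.two_Cx hx (h'.trans (Ctx.card_centre_dvd h))) hs hs1 hsd
    have ht' : orderOf (t : MG) = 2 := by rw [Subgroup.orderOf_coe, ht]
    have hnt : ¬ LThreeB.Row.TA (t : MG) := by
      intro hta
      have h6 := six hta (k : MG)
      have h7 : orderOf ((t : MG) * ((k : MG) * t * (k : MG)⁻¹)) = orderOf (t * (k * t * k⁻¹)) :=
        Subgroup.orderOf_coe (t * (k * t * k⁻¹))
      omega
    exact ⟨t, t.2, ht', inv_two ht' hnt⟩

end

end Cfsg.Agent.H49.Fpf.Mon
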