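import Cfsg.Agent.H49.Fpf.MonD
import Cfsg.Agent.H80.Fpf.Mult
import Cfsg.Agent.H847.MonDeg
import Cfsg.Agent.S2059

/-!
# The Monster row of S4228: 59 and 71 are excluded (helper49)
-/

set_option autoImplicit false
set_option maxRecDepth 100000

namespace Cfsg.Agent.H49.Fpf

open Cfsg Subgroup Cfsg.Agent.H80.Fpf

universe u v

theorem minDeg_of_equiv {S : Type u} [Group S] {T : Type v} [Group T] (e : S ≃* T) {B : ℕ} (h : MinDeg S B) :
    MinDeg T B := fun G _ _ _ hπ d ρ hρ hd => h G _ (hπ.equiv_comp e.symm) d ρ hρ hd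

/-- An irreducible representation of degree at least two is not trivial. -/
theorem exists_ne_one_of_irr {G : Type u} [Group G] {d : ℕ} (ρ : Representation ℂ G (Fin d → ℂ))
    (hρ : ρ.IsIrreducible) (hd : 2 ≤ d) : ∃ g, ρ g ≠ 1 := by
  by_contra hcon
  push Not at hcon
  have h1 : ∀ W : Submodule ℂ (Fin d → ℂ), W = ⊥ ∨ W = ⊤ := by
    intro W
    rcases hρ.eq_bot_or_eq_top ⟨W, fun g v hv => by rw [hcon g]; exact hv⟩ with h | h
    · exact Or.inl (congrArg Subrepresentation.toSubmodule h)
    · exact Or.inr (congrArg Subrepresentation.toSubmodule h)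
  have h2 : (Pi.single ⟨0, by omega⟩ 1 : Fin d → ℂ) ≠ 0 := by
    intro h
    have := congrFun h ⟨0, by omega⟩
    simp at this
  rcases h1 (Submodule.span ℂ {Pi.single ⟨0, by omega⟩ 1}) with h | h
  · rw [Submodule.span_singleton_eq_bot] at h
    exact h2 h
  · have h3 := congrArg (fun W : Submodule ℂ (Fin d → ℂ) => Module.finrank ℂ W) h
    rw [finrank_span_singleton h2, finrank_top, Module.finrank_fin_fun] at h3
    omega

namespace Mon

theorem isM : Cfsg.IsM Spor.Monster := Cfsg.Agent.MonsterP.Equiv.isM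

theorem finite_monster : Finite Spor.Monster := Nat.finite_of_card_ne_zero (by rw [isM.2]; norm_num)

theorem perfect_monster : commutator Spor.Monster = ⊤ := by
  have := isM.1
  exact Cfsg.Agent.H53.OddLift.commutator_eq_top_of_card isM.2 (by norm_num)

theorem multDvd_monster : MultDvd Spor.Monster 1 := multDvd_of_cyclic one_ne_zero Cfsg.Agent.S2059.result

theorem minDeg_monster : MinDeg Spor.Monster 196883 := by
  have hfin := finite_monster
  refine minDeg_of_mult_one perfect_monster multDvd_monster fun d ρ hρ hd => ?_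
  have h1 := Cfsg.Agent.H847.MonDeg.bound ρ (exists_ne_one_of_irr ρ hρ hd)
  rwa [Module.finrank_fin_fun] at h1

/-- **59 and 71 are excluded.** -/
theorem not_may_big (hk : ∀ (T : Type) [Group T] [Finite T] [IsSimpleGroup T], IsKnownSimple' T) {r : ℕ}
    (hr : r = 59 ∨ r = 71) : ¬ May r Spor.Monster := by
  intro h
  obtain ⟨e⟩ := MonsterP.Equiv.equiv
  have hfin := Cfsg.Agent.BpSpor.MBigModel.finite
  exact (mctx hk hr (h.of_equiv e)).not_may (minDeg_of_equiv e minDeg_monster) (h.of_equiv e)

end Mon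

end Cfsg.Agent.H49.Fpf
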